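import Cfsg.Agent.LargeExtra.SiegFam.Lin

/-!
# Siegel families: the abstract situation (helper73)

`SFam q b H O D W`: `V` a quadratic space over `F₂`, `H` a group of isometries, `O` an `H`-orbit of nonzero
singular vectors, `D c` (totally singular) and `W c ≤ c^⊥` equivariant families of submodules with
`dim D c + dim W c = dim V`, `D c ∩ (W c)^⊥ = ⟨c⟩`, such that all Siegel maps `sg c w`, `w ∈ W c`, are in `H`.
-/

set_option autoImplicit false

namespace Cfsg.Agent.LargeExtra.SiegFam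

open Module Lin

variable {V : Type*} [AddCommGroup V] [Module (ZMod 2) V]

/-- The Siegel map. -/
def sg (q : V → ZMod 2) (b : LinearMap.BilinForm (ZMod 2) V) (c w v : V) : V :=
  v + b w v • c + b c v • w + (q w * b c v) • c

/-- The abstract Siegel family. -/
structure SFam (q : V → ZMod 2) (b : LinearMap.BilinForm (ZMod 2) V) (H : Subgroup (V ≃ₗ[ZMod 2] V))
    (O : Set V) (D W : V → Submodule (ZMod 2) V) : Prop where
  alt : Alt b
  q_add : ∀ v w, q (v + w) = q v + q w + b v w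
  q_H : ∀ h ∈ H, ∀ v, q (h v) = q v
  zero : ∀ c ∈ O, c ≠ 0
  stable : ∀ h ∈ H, ∀ c ∈ O, h c ∈ O
  trans : ∀ c ∈ O, ∀ c' ∈ O, ∃ h ∈ H, h c = c'
  self_D : ∀ c ∈ O, c ∈ D c
  q_D : ∀ c ∈ O, ∀ v ∈ D c, q v = 0
  self_W : ∀ c ∈ O, c ∈ W c
  perp_W : ∀ c ∈ O, ∀ v ∈ W c, b c v = 0
  D_map : ∀ h ∈ H, ∀ c ∈ O, ∀ v ∈ D c, h v ∈ D (h c)
  W_map : ∀ h ∈ H, ∀ c ∈ O, ∀ v ∈ W c, h v ∈ W (h c)
  siegel : ∀ c ∈ O, ∀ w ∈ W c, ∃ h ∈ H, ∀ v, h v = sg q b c w v
  cap : ∀ c ∈ O, ∀ v ∈ D c, (∀ w ∈ W c, b v w = 0) → v = 0 ∨ v = c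
  dim : ∀ c ∈ O, finrank (ZMod 2) (D c) + finrank (ZMod 2) (W c) = finrank (ZMod 2) V

variable {q : V → ZMod 2} {b : LinearMap.BilinForm (ZMod 2) V}

theorem sg_perp {c w v : V} (h : b c v = 0) : sg q b c w v = v + b w v • c := by
  rw [sg, h, zero_smul, add_zero, mul_zero, zero_smul, add_zero]

theorem sg_fix {c w v : V} (h : b c v = 0) (h' : b w v = 0) : sg q b c w v = v := by
  rw [sg_perp h, h', zero_smul, add_zero]

theorem sg_one {c w v : V} (h : b c v = 1) : sg q b c w v = v + b w v • c + w + q w • c := by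
  rw [sg, h, one_smul, mul_one]

namespace SFam

variable {H : Subgroup (V ≃ₗ[ZMod 2] V)} {O : Set V} {D W : V → Submodule (ZMod 2) V}

theorem comm (F : SFam q b H O D W) (v w : V) : b v w = b w v := F.alt.comm v w

theorem self (F : SFam q b H O D W) (v : V) : b v v = 0 := F.alt.self v

theorem q_zero (F : SFam q b H O D W) : q 0 = 0 := by
  have h := F.q_add 0 0
  rw [add_zero, map_zero, add_zero, zadd] at h
  exact h

theorem b_eq (F : SFam q b H O D W) (v w : V) : b v w = q (v + w) + q v + q w := by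
  rw [F.q_add]
  generalize q v = x, q w = y, b v w = z
  revert x y z; decide

theorem q_self (F : SFam q b H O D W) {c : V} (hc : c ∈ O) : q c = 0 := F.q_D c hc c (F.self_D c hc)

theorem b_H (F : SFam q b H O D W) {h : V ≃ₗ[ZMod 2] V} (hh : h ∈ H) (v w : V) :
    b (h v) (h w) = b v w := by
  rw [F.b_eq, F.b_eq, ← map_add, F.q_H h hh, F.q_H h hh, F.q_H h hh]

theorem b_ts (F : SFam q b H O D W) {S : Submodule (ZMod 2) V} (hS : ∀ v ∈ S, q v = 0) {v w : V}
    (hv : v ∈ S) (hw : w ∈ S) : b v w = 0 := by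
  rw [F.b_eq, hS _ (S.add_mem hv hw), hS v hv, hS w hw]; rfl

theorem b_D (F : SFam q b H O D W) {c : V} (hc : c ∈ O) {v w : V} (hv : v ∈ D c) (hw : w ∈ D c) :
    b v w = 0 := F.b_ts (F.q_D c hc) hv hw

theorem perp_D (F : SFam q b H O D W) {c : V} (hc : c ∈ O) {v : V} (hv : v ∈ D c) : b c v = 0 :=
  F.b_D hc (F.self_D c hc) hv

theorem inv_apply (h : V ≃ₗ[ZMod 2] V) (v : V) : h (h⁻¹ v) = v := h.apply_symm_apply v

theorem apply_inv (h : V ≃ₗ[ZMod 2] V) (v : V) : h⁻¹ (h v) = v := h.symm_apply_apply v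

theorem mem_D_iff (F : SFam q b H O D W) {h : V ≃ₗ[ZMod 2] V} (hh : h ∈ H) {c : V} (hc : c ∈ O) {v : V} :
    h v ∈ D (h c) ↔ v ∈ D c := by
  refine ⟨fun hv => ?_, F.D_map h hh c hc v⟩
  have := F.D_map h⁻¹ (H.inv_mem hh) (h c) (F.stable h hh c hc) _ hv
  rwa [apply_inv, apply_inv] at this

theorem mem_W_iff (F : SFam q b H O D W) {h : V ≃ₗ[ZMod 2] V} (hh : h ∈ H) {c : V} (hc : c ∈ O) {v : V} :
    h v ∈ W (h c) ↔ v ∈ W c := by
  refine ⟨fun hv => ?_, F.W_map h hh c hc v⟩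
  have := F.W_map h⁻¹ (H.inv_mem hh) (h c) (F.stable h hh c hc) _ hv
  rwa [apply_inv, apply_inv] at this

theorem finrank_D (F : SFam q b H O D W) {c c' : V} (hc : c ∈ O) (hc' : c' ∈ O) :
    finrank (ZMod 2) (D c) = finrank (ZMod 2) (D c') := by
  obtain ⟨h, hh, rfl⟩ := F.trans c hc c' hc'
  have e : D (h c) = (D c).map (h : V →ₗ[ZMod 2] V) := by
    ext v
    constructor
    · intro hv
      refine ⟨h⁻¹ v, ?_, inv_apply h v⟩
      rw [SetLike.mem_coe, ← F.mem_D_iff hh hc, inv_apply]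
      exact hv
    · rintro ⟨w, hw, rfl⟩
      exact F.D_map h hh c hc w hw
  rw [e]
  exact (LinearEquiv.finrank_map_eq h (D c)).symm

theorem finrank_W (F : SFam q b H O D W) {c c' : V} (hc : c ∈ O) (hc' : c' ∈ O) :
    finrank (ZMod 2) (W c) = finrank (ZMod 2) (W c') := by
  have h1 := F.dim c hc
  have h2 := F.dim c' hc'
  have h3 := F.finrank_D hc hc'
  omega

theorem two_mul_D (F : SFam q b H O D W) {c : V} (hc : c ∈ O) :
    2 * finrank (ZMod 2) (D c) ≤ finrank (ZMod 2) V :=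
  F.alt.two_mul_le fun _ hv _ hw => F.b_D hc hv hw

/-- the pairs -/
theorem sg_mem (F : SFam q b H O D W) {c w v : V} (hc : c ∈ O) (hw : w ∈ W c) (hv : v ∈ O) :
    sg q b c w v ∈ O := by
  obtain ⟨h, hh, e⟩ := F.siegel c hc w hw
  rw [← e]; exact F.stable h hh v hv

theorem sg_mem_D (F : SFam q b H O D W) {c w v x : V} (hc : c ∈ O) (hw : w ∈ W c) (hv : v ∈ O)
    (hx : x ∈ D v) : sg q b c w x ∈ D (sg q b c w v) := by
  obtain ⟨h, hh, e⟩ := F.siegel c hc w hw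
  rw [← e, ← e]; exact F.D_map h hh v hv x hx

theorem sg_mem_W (F : SFam q b H O D W) {c w v x : V} (hc : c ∈ O) (hw : w ∈ W c) (hv : v ∈ O)
    (hx : x ∈ W v) : sg q b c w x ∈ W (sg q b c w v) := by
  obtain ⟨h, hh, e⟩ := F.siegel c hc w hw
  rw [← e, ← e]; exact F.W_map h hh v hv x hx

theorem sg_b (F : SFam q b H O D W) {c w : V} (hc : c ∈ O) (hw : w ∈ W c) (x y : V) :
    b (sg q b c w x) (sg q b c w y) = b x y := by
  obtain ⟨h, hh, e⟩ := F.siegel c hc w hw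
  rw [← e, ← e]; exact F.b_H hh x y

/-- `dim (D a ∩ b^⊥) + 1 = dim D a` for a nonperpendicular pair -/
theorem finrank_T (F : SFam q b H O D W) {a c : V} (ha : a ∈ O) (hac : b c a = 1) :
    finrank (ZMod 2) (D a ⊓ pp b c : Submodule (ZMod 2) V) + 1 = finrank (ZMod 2) (D a) :=
  F.alt.finrank_inf_pp_lt (F.self_D a ha) (by rw [hac]; decide)

theorem finrank_Wc (F : SFam q b H O D W) {a c : V} (ha : a ∈ O) (hac : b c a = 1) :
    finrank (ZMod 2) (W a ⊓ pp b c : Submodule (ZMod 2) V) + 1 = finrank (ZMod 2) (W a) :=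
  F.alt.finrank_inf_pp_lt (F.self_W a ha) (by rw [hac]; decide)

/-- `T_a ∩ W_a^⊥ = 0` -/
theorem cap' (F : SFam q b H O D W) {a c : V} (ha : a ∈ O) (hac : b c a = 1) {t : V} (ht : t ∈ D a)
    (htc : b c t = 0) (h : ∀ w ∈ W a ⊓ pp b c, b t w = 0) : t = 0 := by
  have key : t = 0 ∨ t = a := by
    apply F.cap a ha t ht
    intro w hw
    have hta : b t a = 0 := by rw [F.comm]; exact F.perp_D ha ht
    rcases zm (b c w) with h1 | h1
    · exact h w ⟨hw, h1⟩
    · have h2 : w + a ∈ W a ⊓ pp b c := by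
        refine ⟨(W a).add_mem hw (F.self_W a ha), ?_⟩
        show b c (w + a) = 0
        rw [map_add, h1, hac]; decide
      have h3 := h _ h2
      rwa [map_add, hta, add_zero] at h3
  rcases key with h1 | h1
  · exact h1
  · rw [h1, hac] at htc
    exact absurd htc (by decide)

/-- `dim (W_a ∩ T_a^⊥) + dim T_a = dim W_a` -/
theorem finrank_P (F : SFam q b H O D W) {a c : V} (ha : a ∈ O) (hac : b c a = 1) :
    finrank (ZMod 2) ((W a ⊓ pp b c) ⊓ b.orthogonal (D a ⊓ pp b c) : Submodule (ZMod 2) V) +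
      finrank (ZMod 2) (D a ⊓ pp b c : Submodule (ZMod 2) V) =
      finrank (ZMod 2) (W a ⊓ pp b c : Submodule (ZMod 2) V) :=
  F.alt.finrank_inf_orth fun _ ht h => F.cap' ha hac ht.1 ht.2 h

end SFam

end Cfsg.Agent.LargeExtra.SiegFam
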