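import Cfsg.Agent.LargeExtra.SiegFam.Basic

/-!
# Siegel families, case (i): a nonsingular common parameter of a nonperpendicular pair (helper73)
-/

set_option autoImplicit false

namespace Cfsg.Agent.LargeExtra.SiegFam

open Module Lin

namespace SFam

variable {V : Type*} [AddCommGroup V] [Module (ZMod 2) V]
  {q : V → ZMod 2} {b : LinearMap.BilinForm (ZMod 2) V}
  {H : Subgroup (V ≃ₗ[ZMod 2] V)} {O : Set V} {D W : V → Submodule (ZMod 2) V}

/-- (P): for `w ∈ W a ∩ W c` nonsingular, `n = r_{a,w} r_{c,w} r_{a,w}` swaps `a` and `c` and is the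
reflection `s_w` on `⟨a, c⟩^⊥`. -/
theorem swap (F : SFam q b H O D W) {a c : V} (ha : a ∈ O) (hc : c ∈ O) (hac : b a c = 1) {w : V}
    (hwa : w ∈ W a) (hwc : w ∈ W c) (hq : q w = 1) :
    ∃ h ∈ H, h a = c ∧ h c = a ∧ ∀ v, b a v = 0 → b c v = 0 → h v = v + b w v • w := by
  obtain ⟨h1, hh1, e1⟩ := F.siegel a ha w hwa
  obtain ⟨h2, hh2, e2⟩ := F.siegel c hc w hwc
  have haw := F.perp_W a ha w hwa
  have hcw := F.perp_W c hc w hwc
  have hwa' : b w a = 0 := by rw [F.comm]; exact haw
  have hwc' : b w c = 0 := by rw [F.comm]; exact hcw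
  have hca : b c a = 1 := by rw [F.comm]; exact hac
  have h1a : h1 a = a := by rw [e1]; exact sg_fix (F.self a) hwa'
  have h1w : h1 w = w := by rw [e1]; exact sg_fix haw (F.self w)
  have h2w : h2 w = w := by rw [e2]; exact sg_fix hcw (F.self w)
  have h2c : h2 c = c := by rw [e2]; exact sg_fix (F.self c) hwc'
  have h2a : h2 a = a + w + c := by
    rw [e2, sg_one hca, hwa', zero_smul, add_zero, hq, one_smul]
  have h1c : h1 c = c + w + a := by
    rw [e1, sg_one hac, hwc', zero_smul, add_zero, hq, one_smul]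
  refine ⟨h1 * h2 * h1, H.mul_mem (H.mul_mem hh1 hh2) hh1, ?_, ?_, ?_⟩
  · show h1 (h2 (h1 a)) = c
    rw [h1a, h2a, map_add, map_add, h1a, h1w, h1c]
    calc a + w + (c + w + a) = c + (w + w) + (a + a) := by abel
      _ = c := by rw [add_self, add_self, add_zero, add_zero]
  · show h1 (h2 (h1 c)) = a
    have : h2 (c + w + a) = a := by
      rw [map_add, map_add, h2c, h2w, h2a]
      calc c + w + (a + w + c) = a + (w + w) + (c + c) := by abel
        _ = a := by rw [add_self, add_self, add_zero, add_zero]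
    rw [h1c, this, h1a]
  · intro v hav hcv
    show h1 (h2 (h1 v)) = v + b w v • w
    rcases zm (b w v) with h0 | h0
    · have h1v : h1 v = v := by rw [e1]; exact sg_fix hav h0
      have h2v : h2 v = v := by rw [e2]; exact sg_fix hcv h0
      rw [h1v, h2v, h1v, h0, zero_smul, add_zero]
    · have h1v : h1 v = v + a := by rw [e1, sg_perp hav, h0, one_smul]
      have h2v : h2 v = v + c := by rw [e2, sg_perp hcv, h0, one_smul]
      rw [h1v, map_add, h2v, h2a, map_add, map_add, map_add, map_add, h1v, h1c, h1a, h1w, h0,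
        one_smul]
      calc v + a + (c + w + a) + (a + w + (c + w + a))
          = v + w + (w + w) + (a + a) + (a + a) + (c + c) := by abel
        _ = v + w := by rw [add_self, add_self, add_self, add_zero, add_zero, add_zero, add_zero]

theorem W_le (F : SFam q b H O D W) {a c : V} (ha : a ∈ O) (hc : c ∈ O) (hac : b a c = 1) {w : V}
    (hwa : w ∈ W a) (hwc : w ∈ W c) (hq : q w = 1) {v : V} (hv : v ∈ W a) (hcv : b c v = 0) :
    v ∈ W c := by
  obtain ⟨h, hh, hha, -, hhv⟩ := F.swap ha hc hac hwa hwc hq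
  have h1 := F.W_map h hh a ha v hv
  rw [hha, hhv v (F.perp_W a ha v hv) hcv] at h1
  have h2 := (W c).add_mem h1 ((W c).smul_mem (b w v) hwc)
  rwa [add_add'] at h2

theorem T_map (F : SFam q b H O D W) {a c : V} (ha : a ∈ O) (hc : c ∈ O) (hac : b a c = 1) {w : V}
    (hwa : w ∈ W a) (hwc : w ∈ W c) (hq : q w = 1) {t : V} (ht : t ∈ D a) (hct : b c t = 0) :
    t + b w t • w ∈ D c := by
  obtain ⟨h, hh, hha, -, hhv⟩ := F.swap ha hc hac hwa hwc hq
  have h1 := F.D_map h hh a ha t ht
  rwa [hha, hhv t (F.perp_D ha ht) hct] at h1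

/-- **case (i) is impossible** for `dim V ≥ 8`, `dim D ≥ 2` -/
theorem case_i (F : SFam q b H O D W) (h8 : 8 ≤ finrank (ZMod 2) V) {a c : V} (ha : a ∈ O) (hc : c ∈ O)
    (hac : b a c = 1) (hd : 2 ≤ finrank (ZMod 2) (D a)) {w : V} (hwa : w ∈ W a) (hwc : w ∈ W c)
    (hq : q w = 1) : False := by
  have hca : b c a = 1 := by rw [F.comm]; exact hac
  have hcw := F.perp_W c hc w hwc
  set W' : Submodule (ZMod 2) V := W a ⊓ pp b c with hW'
  set T : Submodule (ZMod 2) V := D a ⊓ pp b c with hT
  have hwW : w ∈ W' := ⟨hwa, hcw⟩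
  have hWc : ∀ v ∈ W', v ∈ W c := fun v hv => F.W_le ha hc hac hwa hwc hq hv.1 hv.2
  have hmap : ∀ w' ∈ W', q w' = 1 → ∀ t ∈ T, t + b w' t • w' ∈ D c := fun w' hw' hq' t ht =>
    F.T_map ha hc hac hw'.1 (hWc w' hw') hq' ht.1 ht.2
  have dT : finrank (ZMod 2) T + 1 = finrank (ZMod 2) (D a) := F.finrank_T ha hca
  have dW : finrank (ZMod 2) W' + 1 = finrank (ZMod 2) (W a) := F.finrank_Wc ha hca
  have dP : finrank (ZMod 2) (W' ⊓ b.orthogonal T : Submodule (ZMod 2) V) + finrank (ZMod 2) T =
    finrank (ZMod 2) W' := F.finrank_P ha hca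
  have dd := F.dim a ha
  have d2 := F.two_mul_D ha
  have hcap : ∀ t ∈ T, t ≠ 0 → ∃ x ∈ W', b t x = 1 := by
    intro t ht ht0
    by_contra hcon
    push Not at hcon
    exact ht0 (F.cap' ha hca ht.1 ht.2 fun x hx => by
      rcases zm (b t x) with h | h
      · exact h
      · exact absurd h (hcon x hx))
  by_cases hA : ∃ w1 ∈ W', q w1 = 1 ∧ ∀ t ∈ T, b w1 t = 0
  · obtain ⟨w1, hw1, hq1, hw1T⟩ := hA
    have hTc : ∀ t ∈ T, t ∈ D c := by
      intro t ht
      have := hmap w1 hw1 hq1 t ht
      rwa [hw1T t ht, zero_smul, add_zero] at this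
    -- vectors of `W'` not perpendicular to `T` are singular
    have hsing : ∀ y ∈ W', (∃ t ∈ T, b y t = 1) → q y = 0 := by
      rintro y hy ⟨t, ht, hyt⟩
      rcases zm (q y) with h | h
      · exact h
      · exfalso
        have h1 := hmap y hy h t ht
        rw [hyt, one_smul] at h1
        have h2 := (D c).add_mem (hTc t ht) h1
        rw [← add_assoc, add_self, zero_add] at h2
        rw [F.q_D c hc y h2] at h
        exact absurd h (by decide)
    have hone : ∀ p ∈ W', (∀ t ∈ T, b p t = 0) → ∀ y ∈ W', (∃ t ∈ T, b y t = 1) → b y p = q p := by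
      rintro p hp hpT y hy ⟨t, ht, hyt⟩
      have h1 := hsing y hy ⟨t, ht, hyt⟩
      have h2 := hsing (y + p) (W'.add_mem hy hp) ⟨t, ht, by
        rw [map_add, LinearMap.add_apply, hyt, hpT t ht, add_zero]⟩
      rw [F.q_add, h1, zero_add] at h2
      revert h2
      generalize q p = r, b y p = s
      revert r s; decide
    by_cases hT2 : 2 ≤ finrank (ZMod 2) T
    · obtain ⟨t, ht, -, -, ht0, -, -⟩ := F.alt.exists_two hT2
      obtain ⟨x, hx, htx⟩ := hcap t ht ht0
      obtain ⟨t', ht', ht'0, hxt'⟩ := F.alt.exists_mem_pp hT2 x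
      obtain ⟨x', hx', htx'⟩ := hcap t' ht' ht'0
      have e1 := hone w1 hw1 hw1T x hx ⟨t, ht, by rw [F.comm]; exact htx⟩
      have e2 := hone w1 hw1 hw1T x' hx' ⟨t', ht', by rw [F.comm]; exact htx'⟩
      have e3 := hone w1 hw1 hw1T (x + x') (W'.add_mem hx hx') ⟨t', ht', by
        rw [map_add, LinearMap.add_apply, hxt', F.comm x', htx', zero_add]⟩
      rw [map_add, LinearMap.add_apply, e1, e2, hq1] at e3
      exact absurd e3 (by decide)
    · -- `dim T = 1`
      have hTne : T ≠ ⊥ := by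
        intro h0
        rw [h0, finrank_bot] at dT
        omega
      obtain ⟨t, ht, ht0⟩ := (Submodule.ne_bot_iff _).1 hTne
      have hTt : ∀ s ∈ T, s = 0 ∨ s = t := by
        intro s hs
        by_contra hcon
        push Not at hcon
        have h1 : Submodule.span (ZMod 2) ({t} : Set V) ≤ T := by
          rw [Submodule.span_singleton_le_iff_mem]; exact ht
        have h2 := F.alt.eq_of_le h1 (by rw [F.alt.finrank_span_one ht0]; omega)
        rw [← h2] at hs
        rcases mem_span_one.1 hs with h3 | h3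
        · exact hcon.1 h3
        · exact hcon.2 h3
      obtain ⟨x, hx, htx⟩ := hcap t ht ht0
      set P : Submodule (ZMod 2) V := W' ⊓ pp b t with hP
      have hPT : ∀ p ∈ P, ∀ s ∈ T, b p s = 0 := by
        intro p hp s hs
        rcases hTt s hs with rfl | rfl
        · exact map_zero _
        · rw [F.comm]; exact hp.2
      have hPP : ∀ p ∈ P, ∀ p' ∈ P, b p p' = 0 := by
        intro p hp p' hp'
        have e1 := hone p' hp'.1 (hPT p' hp') x hx ⟨t, ht, by rw [F.comm]; exact htx⟩
        have e2 := hone p' hp'.1 (hPT p' hp') (x + p) (W'.add_mem hx hp.1) ⟨t, ht, by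
          rw [map_add, LinearMap.add_apply, F.comm x, htx, hPT p hp t ht, add_zero]⟩
        rw [map_add, LinearMap.add_apply, e1] at e2
        exact add_eq_left.1 e2
      have haP : a ∉ P := fun h => by
        have := h.1.2
        rw [SetLike.mem_coe, mem_pp, hca] at this
        exact absurd this (by decide)
      have hPa : ∀ p ∈ P, b a p = 0 := fun p hp => F.perp_W a ha p hp.1.1
      have h1 : finrank (ZMod 2) (P ⊔ Submodule.span (ZMod 2) {a} : Submodule (ZMod 2) V) =
        finrank (ZMod 2) P + 1 := F.alt.finrank_sup_one haP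
      have h2 : 2 * finrank (ZMod 2) (P ⊔ Submodule.span (ZMod 2) {a} : Submodule (ZMod 2) V) ≤
          finrank (ZMod 2) V := F.alt.two_mul_le (by
        intro v hv v' hv'
        obtain ⟨p, hp, s, hs, rfl⟩ := Submodule.mem_sup.1 hv
        obtain ⟨p', hp', s', hs', rfl⟩ := Submodule.mem_sup.1 hv'
        have e1 := hPP p hp p' hp'
        have e2 : b a a = 0 := F.self a
        have e3 := hPa p hp
        have e4 := hPa p' hp'
        have e5 : b p a = 0 := by rw [F.comm]; exact e3
        rcases mem_span_one.1 hs with rfl | rfl <;> rcases mem_span_one.1 hs' with rfl | rfl <;>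
          simp only [map_add, LinearMap.add_apply, e1, e2, e4, e5, add_zero])
      have h3 : finrank (ZMod 2) W' ≤ finrank (ZMod 2) P + 1 := F.alt.finrank_inf_pp W' t
      omega
  · push Not at hA
    have hB : ∀ w1 ∈ W', q w1 = 1 → ∃ t ∈ T, b w1 t = 1 := by
      intro w1 hw1 hq1
      obtain ⟨t, ht, htw⟩ := hA w1 hw1 hq1
      exact ⟨t, ht, zm_ne htw⟩
    set Y : Submodule (ZMod 2) V := (D a ⊓ W') ⊓ pp b w with hY
    have hns : ∀ w' ∈ W', q w' = 1 → w' + w ∈ Y := by
      intro w' hw' hq'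
      obtain ⟨t, ht, hwt⟩ := hB w' hw' hq'
      have h1 := hmap w' hw' hq' t ht
      rw [hwt, one_smul] at h1
      have h2 : b a (t + w') = 0 := by
        rw [map_add, F.perp_D ha ht.1, F.perp_W a ha w' hw'.1, add_zero]
      have h3 := F.T_map hc ha hca hwc hwa hq h1 h2
      have h4 : w' + b w (t + w') • w ∈ D a := by
        have := (D a).add_mem ht.1 h3
        rwa [← add_assoc, ← add_assoc, add_self, zero_add] at this
      have h5 : w' + w ∈ D a := by
        rcases zm (b w (t + w')) with h6 | h6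
        · rw [h6, zero_smul, add_zero] at h4
          rw [F.q_D a ha _ h4] at hq'
          exact absurd hq' (by decide)
        · rwa [h6, one_smul] at h4
      refine ⟨⟨h5, W'.add_mem hw' hwW⟩, ?_⟩
      show b w (w' + w) = 0
      have h6 := F.q_D a ha _ h5
      rw [F.q_add, hq, hq', one_add, zero_add] at h6
      rw [map_add, F.self, add_zero, F.comm]
      exact h6
    have hperp : W' ⊓ pp b w ≤ Y ⊔ Submodule.span (ZMod 2) {w} := by
      rintro x ⟨hx, hxw⟩
      rw [Alt.mem_sup_one]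
      rcases zm (q x) with h1 | h1
      · have h2 : q (x + w) = 1 := by
          rw [F.q_add, h1, hq, F.comm, mem_pp.1 hxw, zero_add, add_zero]
        have h3 := hns (x + w) (W'.add_mem hx hwW) h2
        rw [add_add'] at h3
        exact Or.inl h3
      · exact Or.inr (hns x hx h1)
    have h1 : finrank (ZMod 2) W' ≤ finrank (ZMod 2) (W' ⊓ pp b w : Submodule (ZMod 2) V) + 1 :=
      F.alt.finrank_inf_pp W' w
    have h2 : finrank (ZMod 2) (W' ⊓ pp b w : Submodule (ZMod 2) V) ≤
      finrank (ZMod 2) (Y ⊔ Submodule.span (ZMod 2) {w} : Submodule (ZMod 2) V) :=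
      F.alt.finrank_le_of_le hperp
    have h3 : finrank (ZMod 2) (Y ⊔ Submodule.span (ZMod 2) {w} : Submodule (ZMod 2) V) ≤
        finrank (ZMod 2) Y + 1 := by
      have hwY : w ∉ Y := fun h => by
        rw [F.q_D a ha w h.1.1] at hq
        exact absurd hq (by decide)
      exact (F.alt.finrank_sup_one hwY).le
    obtain ⟨t0, ht0, hwt0⟩ := hB w hwW hq
    have h4 : Y ≤ T ⊓ pp b w := fun y hy => ⟨⟨hy.1.1, hy.1.2.2⟩, hy.2⟩
    have h5 : finrank (ZMod 2) Y ≤ finrank (ZMod 2) (T ⊓ pp b w : Submodule (ZMod 2) V) :=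
      F.alt.finrank_le_of_le h4
    have h6 : finrank (ZMod 2) (T ⊓ pp b w : Submodule (ZMod 2) V) + 1 = finrank (ZMod 2) T :=
      F.alt.finrank_inf_pp_lt ht0 (by rw [hwt0]; decide)
    obtain ⟨m, hm⟩ := F.alt.even
    -- now `2 dim D = dim V`
    have h7 : 2 * finrank (ZMod 2) (D a) = finrank (ZMod 2) V := by omega
    have h8' : finrank (ZMod 2) (W' ⊓ b.orthogonal T : Submodule (ZMod 2) V) = 0 := by omega
    have h9 : Y ≤ W' ⊓ b.orthogonal T := by
      intro y hy
      refine ⟨hy.1.2, mem_orth.2 fun s hs => F.b_D ha hs.1 hy.1.1⟩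
    have h10 : finrank (ZMod 2) Y ≤ finrank (ZMod 2) (W' ⊓ b.orthogonal T : Submodule (ZMod 2) V) :=
      F.alt.finrank_le_of_le h9
    omega

end SFam

end Cfsg.Agent.LargeExtra.SiegFam
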