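import Cfsg.Agent.LargeExtra.SiegFam.CaseI

/-!
# Siegel families, case (ii): the parameter spaces are totally singular (helper73)
-/

set_option autoImplicit false

namespace Cfsg.Agent.LargeExtra.SiegFam

open Module Lin

namespace SFam

variable {V : Type*} [AddCommGroup V] [Module (ZMod 2) V]
  {q : V → ZMod 2} {b : LinearMap.BilinForm (ZMod 2) V}
  {H : Subgroup (V ≃ₗ[ZMod 2] V)} {O : Set V} {D W : V → Submodule (ZMod 2) V}

/-- No elliptic plane is orthogonal to a totally singular space of dimension `n/2 - 1` when there is a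
totally singular space of dimension `n/2`. -/
theorem no_elliptic (F : SFam q b H O D W) {M U : Submodule (ZMod 2) V} (hM : ∀ v ∈ M, q v = 0)
    (hM2 : finrank (ZMod 2) V ≤ 2 * finrank (ZMod 2) M) (hU : ∀ v ∈ U, q v = 0)
    (hU2 : finrank (ZMod 2) V ≤ 2 * finrank (ZMod 2) U + 2) {w w' : V} (hw : ∀ u ∈ U, b u w = 0)
    (hw' : ∀ u ∈ U, b u w' = 0) (hqw : q w = 1) (hqw' : q w' = 1) (hww' : b w w' = 1) : False := by
  have A := F.alt
  have hMM : ∀ v ∈ M, ∀ v' ∈ M, b v v' = 0 := fun v hv v' hv' => F.b_ts hM hv hv'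
  have hUU : ∀ v ∈ U, ∀ v' ∈ U, b v v' = 0 := fun v hv v' hv' => F.b_ts hU hv hv'
  have hMo : b.orthogonal M = M := by
    apply le_antisymm
    · intro v hv
      exact A.mem_of_perp hMM hM2 (mem_orth.1 hv)
    · exact fun v hv => mem_orth.2 fun s hs => hMM s hs v hv
  have dM := A.two_mul_le hMM
  have dU := A.two_mul_le hUU
  have hwU : w ∉ U := fun h => by rw [hU w h] at hqw; exact absurd hqw (by decide)
  -- a singular vector of `U^⊥` outside `U`
  obtain ⟨v, hvU, hvU', hqv⟩ : ∃ v, (∀ u ∈ U, b u v = 0) ∧ v ∉ U ∧ q v = 0 := by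
    by_contra hcon
    push Not at hcon
    have h1 : b.orthogonal (M ⊔ U) ≤ M ⊓ U := by
      rw [Alt.orth_sup, hMo]
      rintro v ⟨hv1, hv2⟩
      refine ⟨hv1, ?_⟩
      by_contra h
      exact hcon v (mem_orth.1 hv2) h (hM v hv1)
    have h2 := A.finrank_le_of_le h1
    have h3 := A.finrank_orth (M ⊔ U)
    have h4 := A.finrank_sup_inf M U
    have h5 : M ⊓ U < U ∨ U ≤ M := by
      by_cases h : U ≤ M
      · exact Or.inr h
      · left
        exact lt_of_le_of_ne inf_le_right fun he => h (he ▸ inf_le_left)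
    have h6 : finrank (ZMod 2) (M ⊓ U : Submodule (ZMod 2) V) ≤ finrank (ZMod 2) U :=
      A.finrank_le_of_le inf_le_right
    obtain ⟨m, hm⟩ := A.even
    -- `U` has dimension `n/2 - 1`, else it contains `w`
    by_cases h7 : finrank (ZMod 2) V ≤ 2 * finrank (ZMod 2) U
    · exact hwU (A.mem_of_perp hUU h7 hw)
    · omega
  -- `U^⊥ = U + ⟨w, w'⟩`
  have hw'U : w' ∉ U ⊔ Submodule.span (ZMod 2) {w} := by
    intro h
    rcases Alt.mem_sup_one.1 h with h1 | h1
    · rw [hU w' h1] at hqw'; exact absurd hqw' (by decide)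
    · have h2 := hw _ h1
      rw [map_add, LinearMap.add_apply, F.self, add_zero, F.comm, hww'] at h2
      exact absurd h2 (by decide)
  have d1 := A.finrank_sup_one hwU
  have d2 := A.finrank_sup_one hw'U
  have hle : U ⊔ Submodule.span (ZMod 2) {w} ⊔ Submodule.span (ZMod 2) {w'} ≤ b.orthogonal U := by
    refine sup_le (sup_le ?_ ?_) ?_
    · exact fun v hv => mem_orth.2 fun s hs => hUU s hs v hv
    · rw [Submodule.span_singleton_le_iff_mem]; exact mem_orth.2 hw
    · rw [Submodule.span_singleton_le_iff_mem]; exact mem_orth.2 hw'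
  have d3 := A.finrank_orth U
  have heq := A.eq_of_le hle (by omega)
  have hv : v ∈ U ⊔ Submodule.span (ZMod 2) {w} ⊔ Submodule.span (ZMod 2) {w'} := by
    rw [heq]; exact mem_orth.2 hvU
  have key : ∀ u ∈ U, ∀ x, q x = 1 → (∀ u ∈ U, b u x = 0) → q (u + x) = 1 := by
    intro u hu x hx hxu
    rw [F.q_add, hU u hu, hx, hxu u hu, zero_add, add_zero]
  rcases Alt.mem_sup_one.1 hv with h1 | h1
  · rcases Alt.mem_sup_one.1 h1 with h2 | h2
    · exact hvU' h2
    · have h3 := key _ h2 w hqw hw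
      rw [add_add', hqv] at h3
      exact absurd h3 (by decide)
  · rcases Alt.mem_sup_one.1 h1 with h2 | h2
    · have h3 := key _ h2 w' hqw' hw'
      rw [add_add', hqv] at h3
      exact absurd h3 (by decide)
    · have h3 := key _ h2 (w + w') (by rw [F.q_add, hqw, hqw', hww']; decide) (fun u hu => by
        rw [map_add, hw u hu, hw' u hu, add_zero])
      have h4 : v + w' + w + (w + w') = v := by
        calc v + w' + w + (w + w') = v + (w' + w') + (w + w) := by abel
          _ = v := by rw [add_self, add_self, add_zero, add_zero]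
      rw [h4, hqv] at h3
      exact absurd h3 (by decide)

/-- the hypothesis produced by case (i) -/
def NI (q : V → ZMod 2) (b : LinearMap.BilinForm (ZMod 2) V) (O : Set V)
    (W : V → Submodule (ZMod 2) V) : Prop :=
  ∀ a ∈ O, ∀ c ∈ O, b a c = 1 → ∀ w ∈ W a, w ∈ W c → q w = 0

/-- nonsingular parameters of the two members of a nonperpendicular pair are nonperpendicular -/
theorem b_nonsing (F : SFam q b H O D W) (N : NI q b O W) {a c : V} (ha : a ∈ O) (hc : c ∈ O)
    (hac : b a c = 1) {w w' : V} (hw : w ∈ W a) (hcw : b c w = 0) (hqw : q w = 1) (hw' : w' ∈ W c)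
    (haw' : b a w' = 0) (hqw' : q w' = 1) : b w w' = 1 := by
  rcases zm (b w w') with h | h
  · exfalso
    have h1 : sg q b a w c ∈ O := F.sg_mem ha hw hc
    have h2 : sg q b a w w' ∈ W (sg q b a w c) := F.sg_mem_W ha hw hc hw'
    rw [sg_fix haw' h] at h2
    have h3 : b c (sg q b a w c) = 1 := by
      rw [sg_one hac, F.comm w c, hcw, zero_smul, add_zero, hqw, one_smul, map_add, map_add, F.self,
        hcw, F.comm c a, hac]
      decide
    rw [N c hc _ h1 h3 w' hw' h2] at hqw'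
    exact absurd hqw' (by decide)
  · exact h

/-- every parameter space has a nonsingular vector -/
def NS (q : V → ZMod 2) (O : Set V) (W : V → Submodule (ZMod 2) V) : Prop :=
  ∀ a ∈ O, ∃ w ∈ W a, q w = 1

theorem exists_nonsing (F : SFam q b H O D W) (S : NS q O W) {a c : V} (ha : a ∈ O) (hca : b c a = 1) :
    ∃ w ∈ W a, b c w = 0 ∧ q w = 1 := by
  obtain ⟨w, hw, hq⟩ := S a ha
  rcases zm (b c w) with h | h
  · exact ⟨w, hw, h, hq⟩
  · refine ⟨w + a, (W a).add_mem hw (F.self_W a ha), ?_, ?_⟩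
    · rw [map_add, h, hca]; decide
    · rw [F.q_add, hq, F.q_self ha, F.comm, F.perp_W a ha w hw, add_zero, add_zero]

/-- the radical of the parameter space -/
def Rad (b : LinearMap.BilinForm (ZMod 2) V) (W : V → Submodule (ZMod 2) V) (a : V) :
    Submodule (ZMod 2) V := W a ⊓ b.orthogonal (W a)

theorem mem_Rad {a v : V} : v ∈ Rad b W a ↔ v ∈ W a ∧ ∀ w ∈ W a, b w v = 0 := by
  rw [Rad, Submodule.mem_inf, mem_orth]

theorem self_Rad (F : SFam q b H O D W) {a : V} (ha : a ∈ O) : a ∈ Rad b W a :=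
  mem_Rad.2 ⟨F.self_W a ha, fun w hw => by rw [F.comm]; exact F.perp_W a ha w hw⟩

theorem Rad_map (F : SFam q b H O D W) {h : V ≃ₗ[ZMod 2] V} (hh : h ∈ H) {a v : V} (ha : a ∈ O)
    (hv : v ∈ Rad b W a) : h v ∈ Rad b W (h a) := by
  rw [mem_Rad] at hv ⊢
  refine ⟨F.W_map h hh a ha v hv.1, fun w hw => ?_⟩
  have h1 : h⁻¹ w ∈ W a := by
    rw [← F.mem_W_iff hh ha, inv_apply]; exact hw
  have h2 := hv.2 _ h1
  rwa [← F.b_H hh, inv_apply] at h2

/-- the dimensions in case (ii): `2 dim D = dim V`, and the hyperplane `K` -/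
theorem dims (F : SFam q b H O D W) (N : NI q b O W) (S : NS q O W) {a c : V} (ha : a ∈ O) (hc : c ∈ O)
    (hac : b a c = 1) {w' : V} (hw' : w' ∈ W c) (haw' : b a w' = 0) (hqw' : q w' = 1) :
    2 * finrank (ZMod 2) (D a) = finrank (ZMod 2) V ∧
    finrank (ZMod 2) ((W a ⊓ pp b c) ⊓ pp b w' : Submodule (ZMod 2) V) + 2 = finrank (ZMod 2) (D a) ∧
    (∀ k ∈ W a, b c k = 0 → b w' k = 0 → q k = 0) := by
  have hca : b c a = 1 := by rw [F.comm]; exact hac
  obtain ⟨w, hw, hcw, hqw⟩ := F.exists_nonsing S ha hca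
  have hww' := F.b_nonsing N ha hc hac hw hcw hqw hw' haw' hqw'
  set K : Submodule (ZMod 2) V := (W a ⊓ pp b c) ⊓ pp b w' with hK
  have hKq : ∀ k ∈ W a, b c k = 0 → b w' k = 0 → q k = 0 := by
    intro k hk hck hkw'
    rcases zm (q k) with h | h
    · exact h
    · exfalso
      have := F.b_nonsing N ha hc hac hk hck h hw' haw' hqw'
      rw [F.comm, hkw'] at this
      exact absurd this (by decide)
  have hKK : ∀ k ∈ K, q k = 0 := fun k hk => hKq k hk.1.1 hk.1.2 hk.2
  have haK : a ∉ K := fun h => by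
    have h' : b c a = 0 := h.1.2
    rw [hca] at h'
    exact absurd h' (by decide)
  have hU : ∀ v ∈ K ⊔ Submodule.span (ZMod 2) {a}, q v = 0 := by
    intro v hv
    rcases Alt.mem_sup_one.1 hv with h | h
    · exact hKK v h
    · have h1 := hKK _ h
      have h2 : b a (v + a) = 0 := F.perp_W a ha _ h.1.1
      have h3 : q v = q (v + a + a) := by rw [add_add']
      rw [h3, F.q_add, h1, F.q_self ha, F.comm, h2, add_zero, add_zero]
  have d1 : finrank (ZMod 2) (K ⊔ Submodule.span (ZMod 2) {a} : Submodule (ZMod 2) V) =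
    finrank (ZMod 2) K + 1 := F.alt.finrank_sup_one haK
  have d2 : 2 * finrank (ZMod 2) (K ⊔ Submodule.span (ZMod 2) {a} : Submodule (ZMod 2) V) ≤
    finrank (ZMod 2) V := F.alt.two_mul_le fun _ hv _ hv' => F.b_ts hU hv hv'
  have d3 : finrank (ZMod 2) K + 1 = finrank (ZMod 2) (W a ⊓ pp b c : Submodule (ZMod 2) V) :=
    F.alt.finrank_inf_pp_lt (s := w) ⟨hw, hcw⟩ (by rw [F.comm, hww']; decide)
  have d4 := F.finrank_Wc ha hca
  have d5 := F.dim a ha
  have d6 := F.two_mul_D ha
  obtain ⟨m, hm⟩ := F.alt.even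
  have d7 : 2 * finrank (ZMod 2) (D a) = finrank (ZMod 2) V := by
    by_contra hne
    -- `K + ⟨a⟩` would be maximal totally singular, perpendicular to `w'`
    have h1 : finrank (ZMod 2) V ≤
        2 * finrank (ZMod 2) (K ⊔ Submodule.span (ZMod 2) {a} : Submodule (ZMod 2) V) := by omega
    have h2 := F.alt.mem_of_perp (fun _ hv _ hv' => F.b_ts hU hv hv') h1 (v := w') (by
      intro s hs
      rcases Alt.mem_sup_one.1 hs with h | h
      · rw [F.comm]; exact h.2
      · have h3 : b w' (s + a) = 0 := h.2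
        rw [map_add, F.comm w' a, haw', add_zero] at h3
        rw [F.comm]; exact h3)
    rw [hU w' h2] at hqw'
    exact absurd hqw' (by decide)
  exact ⟨d7, by omega, hKq⟩

/-- no nonsingular `v ∈ W a ∩ c^⊥` is perpendicular to `K` -/
theorem not_perp_K (F : SFam q b H O D W) (N : NI q b O W) (S : NS q O W) {a c : V} (ha : a ∈ O)
    (hc : c ∈ O) (hac : b a c = 1) {v : V} (hv : v ∈ W a) (hcv : b c v = 0) (hqv : q v = 1)
    (hp : ∀ k ∈ W a, b c k = 0 → b k v = 0) : False := by
  obtain ⟨w', hw', haw', hqw'⟩ := F.exists_nonsing S hc hac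
  obtain ⟨d1, d2, hKq⟩ := F.dims N S ha hc hac hw' haw' hqw'
  have hca : b c a = 1 := by rw [F.comm]; exact hac
  set K : Submodule (ZMod 2) V := (W a ⊓ pp b c) ⊓ pp b w' with hK
  have haK : a ∉ K := fun h => by
    have h' : b c a = 0 := h.1.2
    rw [hca] at h'
    exact absurd h' (by decide)
  have hU : ∀ v ∈ K ⊔ Submodule.span (ZMod 2) {a}, q v = 0 := by
    intro v hv
    rcases Alt.mem_sup_one.1 hv with h | h
    · exact hKq v h.1.1 h.1.2 h.2
    · have h1 := hKq _ h.1.1 h.1.2 h.2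
      have h2 : b a (v + a) = 0 := F.perp_W a ha _ h.1.1
      have h3 : q v = q (v + a + a) := by rw [add_add']
      rw [h3, F.q_add, h1, F.q_self ha, F.comm, h2, add_zero, add_zero]
  have d3 : finrank (ZMod 2) (K ⊔ Submodule.span (ZMod 2) {a} : Submodule (ZMod 2) V) =
    finrank (ZMod 2) K + 1 := F.alt.finrank_sup_one haK
  refine F.no_elliptic (M := D a) (F.q_D a ha) d1.ge hU (w := v) (w' := w') (by omega) ?_ ?_ hqv hqw'
    (F.b_nonsing N ha hc hac hv hcv hqv hw' haw' hqw')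
  · intro s hs
    rcases Alt.mem_sup_one.1 hs with h | h
    · exact hp s h.1.1 h.1.2
    · have h1 := hp _ h.1.1 h.1.2
      rw [map_add, LinearMap.add_apply, F.perp_W a ha v hv, add_zero] at h1
      exact h1
  · intro s hs
    rcases Alt.mem_sup_one.1 hs with h | h
    · rw [F.comm]; exact h.2
    · have h3 : b w' (s + a) = 0 := h.2
      rw [map_add, F.comm w' a, haw', add_zero] at h3
      rw [F.comm]; exact h3

/-- the radical is totally singular -/
theorem q_Rad (F : SFam q b H O D W) (N : NI q b O W) (S : NS q O W) {a c : V} (ha : a ∈ O)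
    (hc : c ∈ O) (hac : b a c = 1) {v : V} (hv : v ∈ Rad b W a) : q v = 0 := by
  have hca : b c a = 1 := by rw [F.comm]; exact hac
  rcases zm (q v) with h | h
  · exact h
  · exfalso
    rw [mem_Rad] at hv
    rcases zm (b c v) with h1 | h1
    · exact F.not_perp_K N S ha hc hac hv.1 h1 h fun k hk _ => hv.2 k hk
    · refine F.not_perp_K N S ha hc hac (v := v + a) ((W a).add_mem hv.1 (F.self_W a ha)) ?_ ?_ ?_
      · rw [map_add, h1, hca]; decide
      · rw [F.q_add, h, F.q_self ha, F.comm, F.perp_W a ha v hv.1, add_zero, add_zero]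
      · intro k hk _
        rw [map_add, hv.2 k hk, F.comm, F.perp_W a ha k hk, add_zero]

/-- `dim (Rad a ∩ c^⊥) + 3 ≥ dim D` -/
theorem finrank_Rad (F : SFam q b H O D W) (N : NI q b O W) (S : NS q O W) {a c : V} (ha : a ∈ O)
    (hc : c ∈ O) (hac : b a c = 1) :
    finrank (ZMod 2) (D a) ≤ finrank (ZMod 2) (Rad b W a ⊓ pp b c : Submodule (ZMod 2) V) + 3 := by
  have hca : b c a = 1 := by rw [F.comm]; exact hac
  obtain ⟨w', hw', haw', hqw'⟩ := F.exists_nonsing S hc hac
  obtain ⟨w, hw, hcw, hqw⟩ := F.exists_nonsing S ha hca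
  have hww' := F.b_nonsing N ha hc hac hw hcw hqw hw' haw' hqw'
  obtain ⟨d1, d2, hKq⟩ := F.dims N S ha hc hac hw' haw' hqw'
  set K : Submodule (ZMod 2) V := (W a ⊓ pp b c) ⊓ pp b w' with hK
  have hKK : ∀ k ∈ K, q k = 0 := fun k hk => hKq k hk.1.1 hk.1.2 hk.2
  have h1 : finrank (ZMod 2) K ≤ finrank (ZMod 2) (K ⊓ pp b w : Submodule (ZMod 2) V) + 1 :=
    F.alt.finrank_inf_pp K w
  have h2 : K ⊓ pp b w ≤ Rad b W a ⊓ pp b c := by
    rintro v ⟨hv, hvw⟩
    have hvw' : b w v = 0 := hvw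
    refine ⟨mem_Rad.2 ⟨hv.1.1, ?_⟩, hv.1.2⟩
    have e1 : b a v = 0 := F.perp_W a ha v hv.1.1
    -- reduce to `K`
    have e2 : ∀ x ∈ W a, b c x = 0 → b x v = 0 := by
      intro x hx hcx
      rcases zm (b w' x) with h3 | h3
      · exact F.b_ts hKK (v := x) ⟨⟨hx, hcx⟩, h3⟩ hv
      · have h4 : x + w ∈ K := by
          refine ⟨⟨(W a).add_mem hx hw, ?_⟩, ?_⟩
          · show b c (x + w) = 0
            rw [map_add, hcx, hcw, add_zero]
          · show b w' (x + w) = 0
            rw [map_add, h3, F.comm w' w, hww']; decide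
        have h5 := F.b_ts hKK h4 hv
        rwa [map_add, LinearMap.add_apply, hvw', add_zero] at h5
    intro x hx
    rcases zm (b c x) with h3 | h3
    · exact e2 x hx h3
    · have h4 := e2 (x + a) ((W a).add_mem hx (F.self_W a ha)) (by rw [map_add, h3, hca]; decide)
      rwa [map_add, LinearMap.add_apply, e1, add_zero] at h4
  have h3 : finrank (ZMod 2) (K ⊓ pp b w : Submodule (ZMod 2) V) ≤
    finrank (ZMod 2) (Rad b W a ⊓ pp b c : Submodule (ZMod 2) V) := F.alt.finrank_le_of_le h2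
  omega

/-- the radical is perpendicular to the nonsingular parameters on the other side -/
theorem Rad_perp (F : SFam q b H O D W) (N : NI q b O W) (S : NS q O W) {a c : V} (ha : a ∈ O)
    (hc : c ∈ O) (hac : b a c = 1) {v : V} (hv : v ∈ Rad b W a) (hcv : b c v = 0) {w' : V}
    (hw' : w' ∈ W c) (haw' : b a w' = 0) (hqw' : q w' = 1) : b v w' = 0 := by
  have hca : b c a = 1 := by rw [F.comm]; exact hac
  obtain ⟨w, hw, hcw, hqw⟩ := F.exists_nonsing S ha hca
  have hqv := F.q_Rad N S ha hc hac hv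
  rw [mem_Rad] at hv
  have h1 := F.b_nonsing N ha hc hac hw hcw hqw hw' haw' hqw'
  have h2 := F.b_nonsing N ha hc hac (w := w + v) ((W a).add_mem hw hv.1)
    (by rw [map_add, hcw, hcv, add_zero]) (by rw [F.q_add, hqw, hqv, hv.2 w hw, add_zero, add_zero])
    hw' haw' hqw'
  rw [map_add, LinearMap.add_apply, h1] at h2
  exact add_eq_left.1 h2

/-- **Claim 1**: `Rad a ∩ c^⊥ = Rad c ∩ a^⊥` -/
theorem Rad_le (F : SFam q b H O D W) (N : NI q b O W) (S : NS q O W) {a c : V} (ha : a ∈ O)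
    (hc : c ∈ O) (hac : b a c = 1) : Rad b W c ⊓ pp b a ≤ Rad b W a ⊓ pp b c := by
  have hca : b c a = 1 := by rw [F.comm]; exact hac
  obtain ⟨w', hw', haw', hqw'⟩ := F.exists_nonsing S hc hac
  obtain ⟨w, hw, hcw, hqw⟩ := F.exists_nonsing S ha hca
  have hww' := F.b_nonsing N ha hc hac hw hcw hqw hw' haw' hqw'
  obtain ⟨d1, -, -⟩ := F.dims N S ha hc hac hw' haw' hqw'
  have dR := F.finrank_Rad N S ha hc hac
  set R1 : Submodule (ZMod 2) V := Rad b W a ⊓ pp b c with hR1
  set R2 : Submodule (ZMod 2) V := Rad b W c ⊓ pp b a with hR2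
  have p1 : ∀ v ∈ R1, ∀ x ∈ W c, b a x = 0 → q x = 1 → b v x = 0 := fun v hv x hx hax hqx =>
    F.Rad_perp N S ha hc hac hv.1 hv.2 hx hax hqx
  have p2 : ∀ v ∈ R2, ∀ x ∈ W a, b c x = 0 → q x = 1 → b v x = 0 := fun v hv x hx hcx hqx =>
    F.Rad_perp N S hc ha hca hv.1 hv.2 hx hcx hqx
  have q1 : ∀ v ∈ R1, q v = 0 := fun v hv => F.q_Rad N S ha hc hac hv.1
  have q2 : ∀ v ∈ R2, q v = 0 := fun v hv => F.q_Rad N S hc ha hca hv.1
  have p3 : ∀ v ∈ R1, ∀ x ∈ R2, b v x = 0 := by
    intro v hv x hx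
    have hx' := mem_Rad.1 hx.1
    have e1 := p1 v hv w' hw' haw' hqw'
    have e2 := p1 v hv (w' + x) ((W c).add_mem hw' hx'.1) (by
      rw [map_add, haw', mem_pp.1 hx.2, add_zero]) (by
      rw [F.q_add, hqw', q2 x hx, hx'.2 w' hw', add_zero, add_zero])
    rwa [map_add, e1, zero_add] at e2
  -- `U = R1 + R2 + ⟨a⟩`
  have haU : a ∉ R1 ⊔ R2 := by
    intro h
    obtain ⟨x, hx, y, hy, hxy⟩ := Submodule.mem_sup.1 h
    have h1 : b c (x + y) = 0 := by
      rw [map_add, mem_pp.1 hx.2, F.perp_W c hc y (mem_Rad.1 hy.1).1, add_zero]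
    rw [hxy, hca] at h1
    exact absurd h1 (by decide)
  have qU : ∀ v ∈ R1 ⊔ R2, q v = 0 := by
    intro v hv
    obtain ⟨x, hx, y, hy, rfl⟩ := Submodule.mem_sup.1 hv
    rw [F.q_add, q1 x hx, q2 y hy, p3 x hx y hy, add_zero, add_zero]
  have aU : ∀ v ∈ R1 ⊔ R2, b a v = 0 := by
    intro v hv
    obtain ⟨x, hx, y, hy, rfl⟩ := Submodule.mem_sup.1 hv
    rw [map_add, F.perp_W a ha x (mem_Rad.1 hx.1).1, mem_pp.1 hy.2, add_zero]
  have qU' : ∀ v ∈ R1 ⊔ R2 ⊔ Submodule.span (ZMod 2) {a}, q v = 0 := by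
    intro v hv
    rcases Alt.mem_sup_one.1 hv with h | h
    · exact qU v h
    · have h3 : q v = q (v + a + a) := by rw [add_add']
      rw [h3, F.q_add, qU _ h, F.q_self ha, F.comm, aU _ h, add_zero, add_zero]
  have d3 : finrank (ZMod 2) (R1 ⊔ R2 ⊔ Submodule.span (ZMod 2) {a} : Submodule (ZMod 2) V) =
    finrank (ZMod 2) (R1 ⊔ R2 : Submodule (ZMod 2) V) + 1 := F.alt.finrank_sup_one haU
  have hwU : ∀ v ∈ R1 ⊔ R2, b v w = 0 ∧ b v w' = 0 := by
    intro v hv
    obtain ⟨x, hx, y, hy, rfl⟩ := Submodule.mem_sup.1 hv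
    constructor
    · rw [map_add, LinearMap.add_apply, p2 y hy w hw hcw hqw, F.comm x, (mem_Rad.1 hx.1).2 w hw,
        add_zero]
    · rw [map_add, LinearMap.add_apply, p1 x hx w' hw' haw' hqw', F.comm y,
        (mem_Rad.1 hy.1).2 w' hw', add_zero]
  have hdim : finrank (ZMod 2) (R1 ⊔ R2 : Submodule (ZMod 2) V) + 3 ≤ finrank (ZMod 2) (D a) := by
    by_contra hcon
    refine F.no_elliptic (M := D a) (F.q_D a ha) d1.ge qU' (w := w) (w' := w') (by omega) ?_ ?_ hqw
      hqw' hww'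
    · intro s hs
      rcases Alt.mem_sup_one.1 hs with h | h
      · exact (hwU s h).1
      · have h1 := (hwU _ h).1
        rwa [map_add, LinearMap.add_apply, F.perp_W a ha w hw, add_zero] at h1
    · intro s hs
      rcases Alt.mem_sup_one.1 hs with h | h
      · exact (hwU s h).2
      · have h1 := (hwU _ h).2
        rwa [map_add, LinearMap.add_apply, haw', add_zero] at h1
  have h1 : R1 = R1 ⊔ R2 := F.alt.eq_of_le le_sup_left (by omega)
  rw [h1]
  exact le_sup_right

theorem Rad_eq (F : SFam q b H O D W) (N : NI q b O W) (S : NS q O W) {a c : V} (ha : a ∈ O)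
    (hc : c ∈ O) (hac : b a c = 1) : Rad b W a ⊓ pp b c = Rad b W c ⊓ pp b a :=
  le_antisymm (F.Rad_le N S hc ha (by rw [F.comm]; exact hac)) (F.Rad_le N S ha hc hac)

/-- Claim 2 for triangles -/
theorem Rad_tri (F : SFam q b H O D W) (N : NI q b O W) (S : NS q O W) {a c e : V} (ha : a ∈ O)
    (hc : c ∈ O) (he : e ∈ O) (hac : b a c = 1) (hce : b c e = 1) (hae : b a e = 1) {r : V}
    (hr : r ∈ Rad b W a) (hcr : b c r = 0) : b e r = 0 := by
  rcases zm (b e r) with h | h
  · exact h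
  · exfalso
    have hea : b e a = 1 := by rw [F.comm]; exact hae
    have hec : b e c = 1 := by rw [F.comm]; exact hce
    have h1 : r + a ∈ Rad b W a ⊓ pp b e :=
      ⟨(Rad b W a).add_mem hr (F.self_Rad ha), by
        show b e (r + a) = 0
        rw [map_add, h, hea]; decide⟩
    rw [F.Rad_eq N S ha he hae] at h1
    have h2 : r ∈ Rad b W a ⊓ pp b c := ⟨hr, hcr⟩
    rw [F.Rad_eq N S ha hc hac] at h2
    have h3 : r + c ∈ Rad b W c ⊓ pp b e :=
      ⟨(Rad b W c).add_mem h2.1 (F.self_Rad hc), by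
        show b e (r + c) = 0
        rw [map_add, h, hec]; decide⟩
    rw [F.Rad_eq N S hc he hce] at h3
    have h4 := (Rad b W e).add_mem h1.1 h3.1
    have h5 : r + a + (r + c) = a + c := by
      calc r + a + (r + c) = a + c + (r + r) := by abel
        _ = a + c := by rw [add_self, add_zero]
    rw [h5] at h4
    have h6 := F.q_Rad N S he ha hea h4
    rw [F.q_add, F.q_self ha, F.q_self hc, hac] at h6
    exact absurd h6 (by decide)

theorem Rad_path_le (F : SFam q b H O D W) (N : NI q b O W) (S : NS q O W) {a c e : V} (ha : a ∈ O)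
    (hc : c ∈ O) (he : e ∈ O) (hac : b a c = 1) (hce : b c e = 1) :
    Rad b W a ⊓ pp b c ≤ Rad b W c ⊓ pp b e := by
  intro r hr
  have hr' := hr
  rw [F.Rad_eq N S ha hc hac] at hr'
  refine ⟨hr'.1, ?_⟩
  show b e r = 0
  rcases zm (b a e) with hae | hae
  · rcases zm (b e r) with h | h
    · exact h
    · exfalso
      have hca : b c a = 1 := by rw [F.comm]; exact hac
      have hea : b e a = 0 := by rw [F.comm]; exact hae
      have hec : b e c = 1 := by rw [F.comm]; exact hce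
      have hqr := F.q_Rad N S ha hc hac hr.1
      -- a nonsingular parameter perpendicular to `e`
      obtain ⟨w, hw, hcw, hqw, hew⟩ : ∃ w ∈ W a, b c w = 0 ∧ q w = 1 ∧ b e w = 0 := by
        obtain ⟨w, hw, hcw, hqw⟩ := F.exists_nonsing S ha hca
        rcases zm (b e w) with h1 | h1
        · exact ⟨w, hw, hcw, hqw, h1⟩
        · refine ⟨w + r, (W a).add_mem hw (mem_Rad.1 hr.1).1, ?_, ?_, ?_⟩
          · rw [map_add, hcw, mem_pp.1 hr.2, add_zero]
          · rw [F.q_add, hqw, hqr, (mem_Rad.1 hr.1).2 w hw, add_zero, add_zero]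
          · rw [map_add, h1, h]; decide
      have haw := F.perp_W a ha w hw
      have hc' : sg q b a w c ∈ O := F.sg_mem ha hw hc
      rw [sg_one hac, F.comm w c, hcw, zero_smul, add_zero, hqw, one_smul] at hc'
      set c' := c + w + a with hc'd
      have hac' : b a c' = 1 := by
        rw [hc'd, map_add, map_add, hac, haw, F.self, add_zero, add_zero]
      have hcc' : b c c' = 1 := by
        rw [hc'd, map_add, map_add, F.self, hcw, hca, zero_add, zero_add]
      have hec' : b e c' = 1 := by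
        rw [hc'd, map_add, map_add, hec, hew, hea, add_zero, add_zero]
      have hc'e : b c' e = 1 := by rw [F.comm]; exact hec'
      have hc'c : b c' c = 1 := by rw [F.comm]; exact hcc'
      -- `r ∈ Rad c ∩ c'^⊥ = Rad c' ∩ c^⊥`, then triangle `c', c, e`
      have h1 : b c' r = 0 := F.Rad_tri N S ha hc hc' hac hcc' hac' hr.1 hr.2
      have h2 : r ∈ Rad b W c ⊓ pp b c' := ⟨hr'.1, h1⟩
      rw [F.Rad_eq N S hc hc' hcc'] at h2
      have h3 := F.Rad_tri N S hc' hc he hc'c hce hc'e h2.1 h2.2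
      rw [h] at h3
      exact absurd h3 (by decide)
  · exact F.Rad_tri N S ha hc he hac hce hae hr.1 hr.2

/-- **Claim 2** -/
theorem Rad_path (F : SFam q b H O D W) (N : NI q b O W) (S : NS q O W) {a c e : V} (ha : a ∈ O)
    (hc : c ∈ O) (he : e ∈ O) (hac : b a c = 1) (hce : b c e = 1) :
    Rad b W a ⊓ pp b c = Rad b W c ⊓ pp b e := by
  apply le_antisymm (F.Rad_path_le N S ha hc he hac hce)
  have h1 := F.Rad_path_le N S he hc ha (by rw [F.comm]; exact hce) (by rw [F.comm]; exact hac)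
  rw [← F.Rad_eq N S hc he hce, ← F.Rad_eq N S ha hc hac] at h1
  exact h1

/-- **connectivity** of the nonperpendicularity graph when parameter spaces are not totally singular -/
theorem connected (F : SFam q b H O D W) (S : NS q O W) (hnb : ∀ a ∈ O, ∃ c ∈ O, b a c = 1)
    {P : V → Prop} (hcl : ∀ a ∈ O, ∀ c ∈ O, P a → b a c = 1 → P c) {a0 : V} (ha0 : a0 ∈ O)
    (hP : P a0) : ∀ c ∈ O, P c := by
  intro c0 hc0
  by_contra hPc0
  have hperp : ∀ a ∈ O, ∀ c ∈ O, P a → ¬ P c → b a c = 0 := by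
    intro a ha c hc hPa hPc
    rcases zm (b a c) with h | h
    · exact h
    · exact absurd (hcl a ha c hc hPa h) hPc
  -- step 1
  have step1 : ∀ a ∈ O, ∀ c ∈ O, P a → ¬ P c → ∀ u ∈ W c, b a u = 0 := by
    intro a ha c hc hPa hPc u hu
    rcases zm (b a u) with h | h
    · exact h
    · exfalso
      have hca : b c a = 0 := by rw [F.comm]; exact hperp a ha c hc hPa hPc
      have h1 := F.sg_mem hc hu ha
      rw [sg_perp hca, F.comm u a, h, one_smul] at h1
      obtain ⟨c', hc', hcc'⟩ := hnb c hc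
      obtain ⟨a', ha', haa'⟩ := hnb a ha
      have hPa' := hcl a ha a' ha' hPa haa'
      have hPc' : ¬ P c' := fun h2 => hPc (hcl c' hc' c hc h2 (by rw [F.comm]; exact hcc'))
      by_cases h2 : P (a + c)
      · apply hPc'
        apply hcl _ h1 c' hc' h2
        rw [map_add, LinearMap.add_apply, hperp a ha c' hc' hPa hPc', hcc', zero_add]
      · apply h2
        apply hcl a' ha' _ h1 hPa'
        rw [map_add, hperp a' ha' c hc hPa' hPc, F.comm a', haa', add_zero]
  have step1' : ∀ a ∈ O, ∀ c ∈ O, P a → ¬ P c → ∀ u ∈ W a, b c u = 0 := by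
    intro a ha c hc hPa hPc u hu
    rcases zm (b c u) with h | h
    · exact h
    · exfalso
      have hac := hperp a ha c hc hPa hPc
      have h1 := F.sg_mem ha hu hc
      rw [sg_perp hac, F.comm u c, h, one_smul] at h1
      obtain ⟨c', hc', hcc'⟩ := hnb c hc
      obtain ⟨a', ha', haa'⟩ := hnb a ha
      have hPa' := hcl a ha a' ha' hPa haa'
      have hPc' : ¬ P c' := fun h2 => hPc (hcl c' hc' c hc h2 (by rw [F.comm]; exact hcc'))
      by_cases h2 : P (c + a)
      · apply hPc'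
        apply hcl _ h1 c' hc' h2
        rw [map_add, LinearMap.add_apply, hperp a ha c' hc' hPa hPc', hcc', add_zero]
      · apply h2
        apply hcl a' ha' _ h1 hPa'
        rw [map_add, hperp a' ha' c hc hPa' hPc, F.comm a', haa', zero_add]
  have hcD : ∀ a ∈ O, ∀ c ∈ O, P a → ¬ P c → c ∉ D a := by
    intro a ha c hc hPa hPc hcD
    rcases F.cap a ha c hcD (step1' a ha c hc hPa hPc) with h | h
    · exact F.zero c hc h
    · rw [h] at hPc; exact hPc hPa
  have step2 : ∀ v ∈ D a0, b c0 v = 0 := by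
    intro v hv
    rcases zm (b c0 v) with h | h
    · exact h
    · exfalso
      obtain ⟨u, hu, hqu⟩ := S c0 hc0
      have hca : b c0 a0 = 0 := by rw [F.comm]; exact hperp a0 ha0 c0 hc0 hP hPc0
      have hua : b u a0 = 0 := by rw [F.comm]; exact step1 a0 ha0 c0 hc0 hP hPc0 u hu
      have h1 := F.sg_mem_D hc0 hu ha0 hv
      rw [sg_fix hca hua, sg_one h, hqu, one_smul] at h1
      have h2 : b u v • c0 + u + c0 ∈ D a0 := by
        have := (D a0).add_mem hv h1
        have e : v + (v + b u v • c0 + u + c0) = b u v • c0 + u + c0 := by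
          calc v + (v + b u v • c0 + u + c0) = (v + v) + (b u v • c0 + u + c0) := by abel
            _ = _ := by rw [add_self, zero_add]
        rwa [e] at this
      have h3 := F.q_D a0 ha0 _ h2
      have hcu := F.perp_W c0 hc0 u hu
      rcases zm (b u v) with h4 | h4
      · rw [h4, zero_smul, zero_add, F.q_add, hqu, F.q_self hc0, F.comm, hcu] at h3
        exact absurd h3 (by decide)
      · rw [h4, one_smul] at h3
        have e : c0 + u + c0 = u := by
          calc c0 + u + c0 = u + (c0 + c0) := by abel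
            _ = u := by rw [add_self, add_zero]
        rw [e, hqu] at h3
        exact absurd h3 (by decide)
  have step3 : ∀ v ∈ D a0, ∀ u ∈ W c0, b u v = 0 := by
    intro v hv u hu
    rcases zm (b u v) with h | h
    · exact h
    · exfalso
      have hca : b c0 a0 = 0 := by rw [F.comm]; exact hperp a0 ha0 c0 hc0 hP hPc0
      have hua : b u a0 = 0 := by rw [F.comm]; exact step1 a0 ha0 c0 hc0 hP hPc0 u hu
      have h1 := F.sg_mem_D hc0 hu ha0 hv
      rw [sg_fix hca hua, sg_perp (step2 v hv), h, one_smul] at h1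
      have h2 := (D a0).add_mem hv h1
      rw [← add_assoc, add_self, zero_add] at h2
      exact hcD a0 ha0 c0 hc0 hP hPc0 h2
  have h1 : D a0 ≤ b.orthogonal (W c0) := fun v hv => mem_orth.2 fun u hu => step3 v hv u hu
  have h2 := F.alt.finrank_orth (W c0)
  have h3 := F.dim c0 hc0
  have h4 := F.finrank_D ha0 hc0
  have h5 := F.alt.eq_of_le h1 (by omega)
  apply hcD a0 ha0 c0 hc0 hP hPc0
  rw [h5]
  exact mem_orth.2 fun u hu => by rw [F.comm]; exact F.perp_W c0 hc0 u hu

/-- **case (ii)**: the parameter spaces are totally singular -/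
theorem W_ts (F : SFam q b H O D W) (h8 : 8 ≤ finrank (ZMod 2) V)
    (hirr : ∀ R : Submodule (ZMod 2) V, (∀ v ∈ R, q v = 0) → (∀ h ∈ H, ∀ v ∈ R, h v ∈ R) → R = ⊥)
    {a0 c0 : V} (ha0 : a0 ∈ O) (hc0 : c0 ∈ O) (hac0 : b a0 c0 = 1)
    (hd : 2 ≤ finrank (ZMod 2) (D a0)) : ∀ c ∈ O, ∀ v ∈ W c, q v = 0 := by
  have N : NI q b O W := by
    intro a ha c hc hac w hwa hwc
    rcases zm (q w) with h | h
    · exact h
    · exact (F.case_i h8 ha hc hac (by rw [F.finrank_D ha ha0]; exact hd) hwa hwc h).elim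
  by_contra hcon
  push Not at hcon
  obtain ⟨e, he, v, hv, hqv⟩ := hcon
  have hqv' := zm_ne hqv
  have S : NS q O W := by
    intro c hc
    obtain ⟨h, hh, rfl⟩ := F.trans e he c hc
    exact ⟨h v, F.W_map h hh e he v hv, by rw [F.q_H h hh]; exact hqv'⟩
  have hnb : ∀ a ∈ O, ∃ c ∈ O, b a c = 1 := by
    intro a ha
    obtain ⟨h, hh, rfl⟩ := F.trans a0 ha0 a ha
    exact ⟨h c0, F.stable h hh c0 hc0, by rw [F.b_H hh]; exact hac0⟩
  set R0 : Submodule (ZMod 2) V := Rad b W a0 ⊓ pp b c0 with hR0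
  have hall : ∀ a ∈ O, ∀ c ∈ O, b a c = 1 → Rad b W a ⊓ pp b c = R0 := by
    apply F.connected S hnb (P := fun a => ∀ c ∈ O, b a c = 1 → Rad b W a ⊓ pp b c = R0) ?_ ha0
    · intro c hc hac
      rw [hR0, F.Rad_eq N S ha0 hc0 hac0]
      exact (F.Rad_path N S hc0 ha0 hc (by rw [F.comm]; exact hac0) hac).symm
    · intro a ha c hc hPa hac e he hce
      rw [← F.Rad_path N S ha hc he hac hce]
      exact hPa c hc hac
  have h1 := hirr R0 (fun v hv => F.q_Rad N S ha0 hc0 hac0 hv.1) (by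
    intro h hh v hv
    rw [← hall (h a0) (F.stable h hh a0 ha0) (h c0) (F.stable h hh c0 hc0)
      (by rw [F.b_H hh]; exact hac0)]
    refine ⟨F.Rad_map hh ha0 hv.1, ?_⟩
    show b (h c0) (h v) = 0
    rw [F.b_H hh]; exact hv.2)
  have h2 := F.finrank_Rad N S ha0 hc0 hac0
  obtain ⟨w', hw', haw', hqw'⟩ := F.exists_nonsing S hc0 hac0
  obtain ⟨d1, -, -⟩ := F.dims N S ha0 hc0 hac0 hw' haw' hqw'
  rw [← hR0, h1, finrank_bot] at h2
  omega

end SFam

end Cfsg.Agent.LargeExtra.SiegFam
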