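import Cfsg.Agent.LargeExtra.SiegFam.CaseII

/-!
# Siegel families, case (iii): totally singular parameter spaces; `V = U ⊕ U'` (helper73)
-/

set_option autoImplicit false

namespace Cfsg.Agent.LargeExtra.SiegFam

open Module Lin

namespace SFam

variable {V : Type*} [AddCommGroup V] [Module (ZMod 2) V]
  {q : V → ZMod 2} {b : LinearMap.BilinForm (ZMod 2) V}
  {H : Subgroup (V ≃ₗ[ZMod 2] V)} {O : Set V} {D W : V → Submodule (ZMod 2) V}

/-- the parameter spaces are totally singular -/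
def WT (q : V → ZMod 2) (O : Set V) (W : V → Submodule (ZMod 2) V) : Prop :=
  ∀ c ∈ O, ∀ v ∈ W c, q v = 0

theorem b_W (F : SFam q b H O D W) (T : WT q O W) {c : V} (hc : c ∈ O) {v w : V} (hv : v ∈ W c)
    (hw : w ∈ W c) : b v w = 0 := F.b_ts (T c hc) hv hw

theorem dim_eq (F : SFam q b H O D W) (T : WT q O W) {c : V} (hc : c ∈ O) :
    2 * finrank (ZMod 2) (D c) = finrank (ZMod 2) V ∧ 2 * finrank (ZMod 2) (W c) = finrank (ZMod 2) V := by
  have h1 := F.two_mul_D hc
  have h2 := F.alt.two_mul_le fun _ hv _ hw => F.b_W T hc hv hw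
  have h3 := F.dim c hc
  omega

theorem mem_W_of_perp (F : SFam q b H O D W) (T : WT q O W) {c : V} (hc : c ∈ O) {v : V}
    (hv : ∀ w ∈ W c, b w v = 0) : v ∈ W c :=
  F.alt.mem_of_perp (fun _ hv _ hw => F.b_W T hc hv hw) (F.dim_eq T hc).2.ge hv

theorem mem_D_of_perp (F : SFam q b H O D W) (T : WT q O W) {c : V} (hc : c ∈ O) {v : V}
    (hv : ∀ w ∈ D c, b w v = 0) : v ∈ D c :=
  F.alt.mem_of_perp (fun _ hv _ hw => F.b_D hc hv hw) (F.dim_eq T hc).1.ge hv

theorem D_inf_W (F : SFam q b H O D W) (T : WT q O W) {c : V} (hc : c ∈ O) {v : V} (hD : v ∈ D c)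
    (hW : v ∈ W c) : v = 0 ∨ v = c := F.cap c hc v hD fun _ hw => F.b_W T hc hW hw

/-- the map `n` -/
theorem move (F : SFam q b H O D W) (T : WT q O W) {a c w w' : V} (ha : a ∈ O) (hc : c ∈ O)
    (hac : b a c = 1) (hw : w ∈ W a) (hcw : b c w = 0) (hw' : w' ∈ W c) (haw' : b a w' = 0)
    (hww' : b w w' = 1) :
    ∃ n ∈ H, n a = w' ∧ n w' = a ∧ n c = w ∧ n w = c ∧
      ∀ x, b a x = 0 → b c x = 0 → b w x = 0 → b w' x = 0 → n x = x := by
  obtain ⟨h1, hh1, e1⟩ := F.siegel a ha w hw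
  obtain ⟨h2, hh2, e2⟩ := F.siegel c hc w' hw'
  have haw := F.perp_W a ha w hw
  have hcw' := F.perp_W c hc w' hw'
  have hqw := T a ha w hw
  have hqw' := T c hc w' hw'
  have hca : b c a = 1 := by rw [F.comm]; exact hac
  have hw'w : b w' w = 1 := by rw [F.comm]; exact hww'
  have hwa : b w a = 0 := by rw [F.comm]; exact haw
  have hwc : b w c = 0 := by rw [F.comm]; exact hcw
  have hw'a : b w' a = 0 := by rw [F.comm]; exact haw'
  have hw'c : b w' c = 0 := by rw [F.comm]; exact hcw'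
  have h1a : h1 a = a := by rw [e1]; exact sg_fix (F.self a) hwa
  have h1w : h1 w = w := by rw [e1]; exact sg_fix haw (F.self w)
  have h1w' : h1 w' = w' + a := by rw [e1, sg_perp haw', hww', one_smul]
  have h1c : h1 c = c + w := by
    rw [e1, sg_one hac, hwc, zero_smul, add_zero, hqw, zero_smul, add_zero]
  have h2c : h2 c = c := by rw [e2]; exact sg_fix (F.self c) hw'c
  have h2w' : h2 w' = w' := by rw [e2]; exact sg_fix hcw' (F.self w')
  have h2w : h2 w = w + c := by rw [e2, sg_perp hcw, hw'w, one_smul]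
  have h2a : h2 a = a + w' := by
    rw [e2, sg_one hca, hw'a, zero_smul, add_zero, hqw', zero_smul, add_zero]
  refine ⟨h1 * h2 * h1, H.mul_mem (H.mul_mem hh1 hh2) hh1, ?_, ?_, ?_, ?_, ?_⟩
  · show h1 (h2 (h1 a)) = w'
    rw [h1a, h2a, map_add, h1a, h1w']
    calc a + (w' + a) = w' + (a + a) := by abel
      _ = w' := by rw [add_self, add_zero]
  · show h1 (h2 (h1 w')) = a
    rw [h1w', map_add, h2w', h2a]
    have : w' + (a + w') = a := by
      calc w' + (a + w') = a + (w' + w') := by abel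
        _ = a := by rw [add_self, add_zero]
    rw [this, h1a]
  · show h1 (h2 (h1 c)) = w
    rw [h1c, map_add, h2c, h2w]
    have : c + (w + c) = w := by
      calc c + (w + c) = w + (c + c) := by abel
        _ = w := by rw [add_self, add_zero]
    rw [this, h1w]
  · show h1 (h2 (h1 w)) = c
    rw [h1w, h2w, map_add, h1w, h1c]
    calc w + (c + w) = c + (w + w) := by abel
      _ = c := by rw [add_self, add_zero]
  · intro x hax hcx hwx hw'x
    show h1 (h2 (h1 x)) = x
    have h1x : h1 x = x := by rw [e1]; exact sg_fix hax hwx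
    have h2x : h2 x = x := by rw [e2]; exact sg_fix hcx hw'x
    rw [h1x, h2x, h1x]

/-- a point `e ∈ O` fixed by all Siegel maps with centre `c` (`e ∈ W c`) and `c ∉ D e`:
`D e ∩ c^⊥ ≤ W c` -/
theorem D_inf_le (F : SFam q b H O D W) (T : WT q O W) {c e : V} (hc : c ∈ O) (he : e ∈ O)
    (hec : e ∈ W c) (hcD : c ∉ D e) {y : V} (hy : y ∈ D e) (hcy : b c y = 0) : y ∈ W c := by
  apply F.mem_W_of_perp T hc
  intro u hu
  rcases zm (b u y) with h | h
  · exact h
  · exfalso
    have h1 := F.sg_mem_D hc hu he hy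
    rw [sg_fix (F.perp_W c hc e hec) (F.b_W T hc hu hec), sg_perp hcy, h, one_smul] at h1
    have h2 := (D e).add_mem hy h1
    rw [← add_assoc, add_self, zero_add] at h2
    exact hcD h2

/-- (★): for `w ∈ W a ∩ c^⊥`, `w ∉ W c`: every `u ∈ W c`, `u ⟂ a, w`, has `u ∈ D a` or `u + w ∈ D a` -/
theorem star (F : SFam q b H O D W) (T : WT q O W) {a c w : V} (ha : a ∈ O) (hc : c ∈ O)
    (hac : b a c = 1) (hw : w ∈ W a) (hcw : b c w = 0) (hwc : w ∉ W c) {u : V} (hu : u ∈ W c)
    (hau : b a u = 0) (hwu : b w u = 0) : u ∈ D a ∨ u + w ∈ D a := by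
  have hca : b c a = 1 := by rw [F.comm]; exact hac
  -- `w'`
  obtain ⟨w', hw', haw', hww'⟩ : ∃ w' ∈ W c, b a w' = 0 ∧ b w w' = 1 := by
    obtain ⟨w', hw', hww'⟩ : ∃ w' ∈ W c, b w w' = 1 := by
      by_contra hcon
      push Not at hcon
      apply hwc
      apply F.mem_W_of_perp T hc
      intro x hx
      rcases zm (b w x) with h | h
      · rw [F.comm]; exact h
      · exact absurd h (hcon x hx)
    rcases zm (b a w') with h | h
    · exact ⟨w', hw', h, hww'⟩
    · refine ⟨w' + c, (W c).add_mem hw' (F.self_W c hc), ?_, ?_⟩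
      · rw [map_add, h, hac]; decide
      · rw [map_add, hww', F.comm w c, hcw, add_zero]
  obtain ⟨n, hn, na, nw', nc, nw, nx⟩ := F.move T ha hc hac hw hcw hw' haw' hww'
  have hw'O : w' ∈ O := by rw [← na]; exact F.stable n hn a ha
  have hcD : c ∉ D w' := by
    intro h
    rw [← nw, ← na, F.mem_D_iff hn ha] at h
    rcases F.D_inf_W T ha h hw with h1 | h1
    · rw [h1, map_zero, LinearMap.zero_apply] at hww'
      exact absurd hww' (by decide)
    · rw [h1, hca] at hcw
      exact absurd hcw (by decide)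
  have h1 : (D w' ⊓ pp b c) ⊔ Submodule.span (ZMod 2) {c} ≤ W c := by
    refine sup_le (fun y hy => F.D_inf_le T hc hw'O hw' hcD hy.1 hy.2) ?_
    rw [Submodule.span_singleton_le_iff_mem]; exact F.self_W c hc
  have hcD' : c ∉ D w' ⊓ pp b c := fun h => hcD h.1
  have d1 := F.alt.finrank_sup_one hcD'
  have d2 := F.alt.finrank_inf_pp (D w') c
  have d3 := (F.dim_eq T hc).2
  have d4 := (F.dim_eq T hw'O).1
  have h2 := F.alt.eq_of_le h1 (by omega)
  rw [← h2] at hu
  have hw'u : b w' u = 0 := by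
    rw [h2] at hu
    exact F.b_W T hc hw' hu
  have hcu : b c u = 0 := by
    rw [h2] at hu
    exact F.perp_W c hc u hu
  have hnu : n u = u := nx u hau hcu hwu hw'u
  rcases Alt.mem_sup_one.1 hu with h3 | h3
  · left
    have h4 := F.D_map n hn w' hw'O u h3.1
    rwa [hnu, nw'] at h4
  · right
    have h4 := F.D_map n hn w' hw'O (u + c) h3.1
    rwa [map_add, hnu, nw', nc] at h4

/-- `W c ∩ a^⊥ ≤ W a` is impossible -/
theorem not_le (F : SFam q b H O D W) (T : WT q O W) (h8 : 8 ≤ finrank (ZMod 2) V) {a c : V}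
    (ha : a ∈ O) (hc : c ∈ O) (hac : b a c = 1) (hle : ∀ x ∈ W c, b a x = 0 → x ∈ W a) : False := by
  have hca : b c a = 1 := by rw [F.comm]; exact hac
  have d1 := (F.dim_eq T hc).2
  obtain ⟨w', hw', hw'0, haw'⟩ := F.alt.exists_mem_pp (S := W c) (by omega) a
  have hw'a := hle w' hw' haw'
  have hcw' := F.perp_W c hc w' hw'
  have hqw' := T c hc w' hw'
  have hw'a' : b w' a = 0 := by rw [F.comm]; exact haw'
  have hea : sg q b c w' a = a + w' := by
    rw [sg_one hca, hw'a', zero_smul, add_zero, hqw', zero_smul, add_zero]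
  have heO : a + w' ∈ O := by rw [← hea]; exact F.sg_mem hc hw' ha
  have hew : sg q b c w' (a + w') = a := by
    have e1 : b c (a + w') = 1 := by rw [map_add, hca, hcw', add_zero]
    rw [sg_one e1, map_add, hw'a', F.self, add_zero, zero_smul, add_zero, hqw', zero_smul,
      add_zero, add_add']
  have heW : a + w' ∈ W a := (W a).add_mem (F.self_W a ha) hw'a
  have haD : a ∉ D (a + w') := by
    intro h
    have h1 := F.sg_mem_D hc hw' heO h
    rw [hea, hew] at h1
    have h2 := (D a).add_mem (F.self_D a ha) h1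
    rw [← add_assoc, add_self, zero_add] at h2
    rcases F.D_inf_W T ha h2 hw'a with h3 | h3
    · exact hw'0 h3
    · rw [h3, hca] at hcw'
      exact absurd hcw' (by decide)
  have h1 : D (a + w') ⊓ pp b a ≤ Submodule.span (ZMod 2) {a + w'} := by
    rintro y ⟨hy, hay⟩
    have h2 : y ∈ W a := F.D_inf_le T ha heO heW haD hy hay
    -- `y ∈ W (a + w')`
    have h3 := F.sg_mem_W hc hw' ha h2
    have h4 := F.sg_mem_W hc hw' ha hw'a
    have hw'y : b w' y = 0 := F.b_W T ha hw'a h2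
    rw [sg_fix hcw' (F.self w'), hea] at h4
    rw [hea, sg] at h3
    simp only [hw'y, hqw', zero_mul, zero_smul, add_zero] at h3
    have h5 : y ∈ W (a + w') := by
      have := (W (a + w')).add_mem h3 ((W (a + w')).smul_mem (b c y) h4)
      rwa [add_add'] at this
    rw [mem_span_one]
    exact F.D_inf_W T heO hy h5
  have d2 := F.alt.finrank_le_of_le h1
  rw [F.alt.finrank_span_one (F.zero _ heO)] at d2
  have d3 := F.alt.finrank_inf_pp (D (a + w')) a
  have d4 := (F.dim_eq T heO).1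
  omega

/-- `W a ∩ W c = 0` for a nonperpendicular pair -/
theorem W_inf_W (F : SFam q b H O D W) (T : WT q O W) (h8 : 8 ≤ finrank (ZMod 2) V) {a c : V}
    (ha : a ∈ O) (hc : c ∈ O) (hac : b a c = 1) {x : V} (hxa : x ∈ W a) (hxc : x ∈ W c) : x = 0 := by
  have hca : b c a = 1 := by rw [F.comm]; exact hac
  obtain ⟨w, hw, hcw, hwc⟩ : ∃ w ∈ W a, b c w = 0 ∧ w ∉ W c := by
    by_contra hcon
    push Not at hcon
    exact F.not_le T h8 hc ha hca hcon
  have hax := F.perp_W a ha x hxa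
  have hcx := F.perp_W c hc x hxc
  rcases F.star T ha hc hac hw hcw hwc hxc hax (F.b_W T ha hw hxa) with h | h
  · rcases F.D_inf_W T ha h hxa with h1 | h1
    · exact h1
    · rw [h1, hca] at hcx
      exact absurd hcx (by decide)
  · exfalso
    rcases F.D_inf_W T ha h ((W a).add_mem hxa hw) with h1 | h1
    · apply hwc
      rw [← eq_of_add h1]; exact hxc
    · have h2 : b c (x + w) = 0 := by rw [map_add, hcx, hcw, add_zero]
      rw [h1, hca] at h2
      exact absurd h2 (by decide)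

/-- `W c ∩ a^⊥ ≤ D a` -/
theorem W_le_D (F : SFam q b H O D W) (T : WT q O W) (h8 : 8 ≤ finrank (ZMod 2) V) {a c : V}
    (ha : a ∈ O) (hc : c ∈ O) (hac : b a c = 1) {x : V} (hx : x ∈ W c) (hax : b a x = 0) :
    x ∈ D a := by
  have hca : b c a = 1 := by rw [F.comm]; exact hac
  by_contra hxD
  have key : ∀ w ∈ W a, w ≠ 0 → b c w = 0 → b w x = 0 → x + w ∈ D a := by
    intro w hw hw0 hcw hwx
    have hwc : w ∉ W c := fun h => hw0 (F.W_inf_W T h8 ha hc hac hw h)
    rcases F.star T ha hc hac hw hcw hwc hx hax hwx with h | h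
    · exact absurd h hxD
    · exact h
  have d1 := (F.dim_eq T ha).2
  have d2 := F.finrank_Wc ha hca
  have d3 := F.alt.finrank_inf_pp (W a ⊓ pp b c) x
  obtain ⟨w1, hw1, w2, hw2, h10, h20, h12⟩ :=
    F.alt.exists_two (S := (W a ⊓ pp b c) ⊓ pp b x) (by omega)
  have e1 := key w1 hw1.1.1 h10 hw1.1.2 (by rw [F.comm]; exact hw1.2)
  have e2 := key w2 hw2.1.1 h20 hw2.1.2 (by rw [F.comm]; exact hw2.2)
  have e3 := (D a).add_mem e1 e2
  have e4 : x + w1 + (x + w2) = w1 + w2 := by
    calc x + w1 + (x + w2) = w1 + w2 + (x + x) := by abel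
      _ = w1 + w2 := by rw [add_self, add_zero]
  rw [e4] at e3
  rcases F.D_inf_W T ha e3 ((W a).add_mem hw1.1.1 hw2.1.1) with h | h
  · exact h12 (eq_of_add h)
  · have h2 : b c (w1 + w2) = 0 := by
      rw [map_add, mem_pp.1 hw1.1.2, mem_pp.1 hw2.1.2, add_zero]
    rw [h, hca] at h2
    exact absurd h2 (by decide)

/-- (★★): `D a ∩ c^⊥ = W c ∩ a^⊥` -/
theorem D_le_W (F : SFam q b H O D W) (T : WT q O W) (h8 : 8 ≤ finrank (ZMod 2) V) {a c : V}
    (ha : a ∈ O) (hc : c ∈ O) (hac : b a c = 1) {x : V} (hx : x ∈ D a) (hcx : b c x = 0) :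
    x ∈ W c := by
  have hca : b c a = 1 := by rw [F.comm]; exact hac
  have h1 : W c ⊓ pp b a ≤ D a ⊓ pp b c := fun v hv =>
    ⟨F.W_le_D T h8 ha hc hac hv.1 hv.2, F.perp_W c hc v hv.1⟩
  have d1 := F.finrank_T ha hca
  have d2 := F.finrank_Wc hc hac
  have d3 := (F.dim_eq T ha).1
  have d4 := (F.dim_eq T hc).2
  have h2 := F.alt.eq_of_le h1 (by omega)
  have h3 : x ∈ D a ⊓ pp b c := ⟨hx, hcx⟩
  rw [← h2] at h3
  exact h3.1

theorem D_inf_D (F : SFam q b H O D W) (T : WT q O W) (h8 : 8 ≤ finrank (ZMod 2) V) {a c : V}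
    (ha : a ∈ O) (hc : c ∈ O) (hac : b a c = 1) {v : V} (hva : v ∈ D a) (hvc : v ∈ D c) : v = 0 := by
  have hca : b c a = 1 := by rw [F.comm]; exact hac
  have h1 := F.D_le_W T h8 ha hc hac hva (F.perp_D hc hvc)
  rcases F.D_inf_W T hc hvc h1 with h | h
  · exact h
  · have h2 := F.perp_D ha hva
    rw [h, hac] at h2
    exact absurd h2 (by decide)

/-- a submodule equality from an inclusion under `h ∈ H` -/
theorem D_eq_of_map (F : SFam q b H O D W) {a : V} (ha : a ∈ O) {n : V ≃ₗ[ZMod 2] V} (hn : n ∈ H)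
    (h : ∀ y ∈ D a, n y ∈ D a) : D (n a) = D a := by
  have hle : D (n a) ≤ D a := by
    have h1 : (D a).map (n : V →ₗ[ZMod 2] V) ≤ D a := by
      rintro _ ⟨y, hy, rfl⟩
      exact h y hy
    intro v hv
    have h2 : n⁻¹ v ∈ D a := by rw [← F.mem_D_iff hn ha, inv_apply]; exact hv
    have h3 := h _ h2
    rwa [inv_apply] at h3
  exact F.alt.eq_of_le hle (F.finrank_D ha (F.stable n hn a ha)).le

/-- every nonzero vector `v` of `D a` is in `O` with `D v = D a` -/
theorem D_const (F : SFam q b H O D W) (T : WT q O W) (h8 : 8 ≤ finrank (ZMod 2) V) {a c : V}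
    (ha : a ∈ O) (hc : c ∈ O) (hac : b a c = 1) {v : V} (hv : v ∈ D a) (hv0 : v ≠ 0) :
    v ∈ O ∧ D v = D a := by
  have hca : b c a = 1 := by rw [F.comm]; exact hac
  rcases zm (b c v) with h | h
  · -- `v = w'` is the image of `a` under a map `n`
    have hvW := F.D_le_W T h8 ha hc hac hv h
    have hav := F.perp_D ha hv
    obtain ⟨w, hw, hcw, hwv⟩ : ∃ w ∈ W a, b c w = 0 ∧ b w v = 1 := by
      have hvWa : v ∉ W a := fun h1 => hv0 (F.W_inf_W T h8 ha hc hac h1 hvW)
      obtain ⟨w, hw, hwv⟩ : ∃ w ∈ W a, b w v = 1 := by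
        by_contra hcon
        push Not at hcon
        apply hvWa
        apply F.mem_W_of_perp T ha
        intro x hx
        rcases zm (b x v) with h1 | h1
        · exact h1
        · exact absurd h1 (hcon x hx)
      rcases zm (b c w) with h1 | h1
      · exact ⟨w, hw, h1, hwv⟩
      · refine ⟨w + a, (W a).add_mem hw (F.self_W a ha), ?_, ?_⟩
        · rw [map_add, h1, hca]; decide
        · rw [map_add, LinearMap.add_apply, hwv, hav, add_zero]
    obtain ⟨n, hn, na, nw', nc, nw, nx⟩ := F.move T ha hc hac hw hcw hvW hav hwv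
    have key : ∀ y ∈ D a, n y ∈ D a := by
      -- first for `y ⟂ c`
      have k1 : ∀ y ∈ D a, b c y = 0 → n y ∈ D a := by
        intro y hy hcy
        have hyW := F.D_le_W T h8 ha hc hac hy hcy
        have hay := F.perp_D ha hy
        have hvy : b v y = 0 := F.b_W T hc hvW hyW
        rcases zm (b w y) with h1 | h1
        · rw [nx y hay hcy h1 hvy]; exact hy
        · have h2 : n (y + v) = y + v := nx (y + v) (by rw [map_add, hay, hav, add_zero])
            (by rw [map_add, hcy, h, add_zero]) (by rw [map_add, h1, hwv]; decide)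
            (by rw [map_add, hvy, F.self, add_zero])
          have h3 : n y = y + v + a := by
            rw [map_add, nw'] at h2
            rw [← h2, add_add']
          rw [h3]
          exact (D a).add_mem ((D a).add_mem hy hv) (F.self_D a ha)
      intro y hy
      rcases zm (b c y) with h1 | h1
      · exact k1 y hy h1
      · have h2 := k1 (y + a) ((D a).add_mem hy (F.self_D a ha)) (by rw [map_add, h1, hca]; decide)
        rw [map_add, na] at h2
        have h3 := (D a).add_mem h2 hv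
        rwa [add_add'] at h3
    have h1 := F.D_eq_of_map ha hn key
    rw [na] at h1
    exact ⟨by rw [← na]; exact F.stable n hn a ha, h1⟩
  · -- `v = a + u`, `u ∈ W c ∩ a^⊥`
    have huD : v + a ∈ D a := (D a).add_mem hv (F.self_D a ha)
    have hcu : b c (v + a) = 0 := by rw [map_add, h, hca]; decide
    have huW := F.D_le_W T h8 ha hc hac huD hcu
    have hau := F.perp_D ha huD
    obtain ⟨n, hn, en⟩ := F.siegel c hc _ huW
    have hqu := T c hc _ huW
    have hua : b (v + a) a = 0 := by rw [F.comm]; exact hau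
    have na : n a = v := by
      rw [en, sg_one hca, hua, zero_smul, add_zero, hqu, zero_smul, add_zero]
      calc a + (v + a) = v + (a + a) := by abel
        _ = v := by rw [add_self, add_zero]
    have key : ∀ y ∈ D a, n y ∈ D a := by
      intro y hy
      rcases zm (b c y) with h1 | h1
      · have hyW := F.D_le_W T h8 ha hc hac hy h1
        rw [en, sg_fix h1 (F.b_W T hc huW hyW)]
        exact hy
      · have hyW := F.D_le_W T h8 ha hc hac ((D a).add_mem hy (F.self_D a ha))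
          (by rw [map_add, h1, hca]; decide)
        have h2 : b (v + a) y = 0 := by
          have := F.b_W T hc huW hyW
          rwa [map_add, hua, add_zero] at this
        rw [en, sg_one h1, h2, zero_smul, add_zero, hqu, zero_smul, add_zero]
        exact (D a).add_mem hy huD
    have h1 := F.D_eq_of_map ha hn key
    rw [na] at h1
    exact ⟨by rw [← na]; exact F.stable n hn a ha, h1⟩

/-- the orbit is the set of nonzero vectors of `D a ∪ D c` -/
theorem mem_or (F : SFam q b H O D W) (T : WT q O W) (h8 : 8 ≤ finrank (ZMod 2) V) {a c : V}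
    (ha : a ∈ O) (hc : c ∈ O) (hac : b a c = 1) {e : V} (he : e ∈ O) : e ∈ D a ∨ e ∈ D c := by
  have hca : b c a = 1 := by rw [F.comm]; exact hac
  by_contra hcon
  push Not at hcon
  have key : ∀ x y : V, x ∈ O → y ∈ O → b x y = 1 → e ∉ D x → D x ⊓ pp b e ≤ W e := by
    intro x y hx hy hxy hex
    obtain ⟨x', hx', hx'e⟩ : ∃ x' ∈ D x, b x' e = 1 := by
      by_contra hcon
      push Not at hcon
      apply hex
      apply F.mem_D_of_perp T hx
      intro z hz
      rcases zm (b z e) with h1 | h1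
      · exact h1
      · exact absurd h1 (hcon z hz)
    have hx'0 : x' ≠ 0 := by
      rintro rfl
      rw [map_zero, LinearMap.zero_apply] at hx'e
      exact absurd hx'e (by decide)
    obtain ⟨h1, h2⟩ := F.D_const T h8 hx hy hxy hx' hx'0
    rintro z ⟨hz, hez⟩
    rw [← h2] at hz
    exact F.D_le_W T h8 h1 he hx'e hz hez
  have h1 := key a c ha hc hac hcon.1
  have h2 := key c a hc ha hca hcon.2
  have h3 : (D a ⊓ pp b e) ⊓ (D c ⊓ pp b e) = ⊥ := by
    rw [eq_bot_iff]
    rintro v ⟨hv1, hv2⟩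
    rw [Submodule.mem_bot]
    exact F.D_inf_D T h8 ha hc hac hv1.1 hv2.1
  have h4 := F.alt.finrank_sup_inf (D a ⊓ pp b e) (D c ⊓ pp b e)
  rw [h3, finrank_bot, add_zero] at h4
  have h5 := F.alt.finrank_le_of_le (sup_le h1 h2)
  have d1 := F.alt.finrank_inf_pp (D a) e
  have d2 := F.alt.finrank_inf_pp (D c) e
  have d3 := (F.dim_eq T ha).1
  have d4 := (F.dim_eq T hc).1
  have d5 := (F.dim_eq T he).2
  omega

/-- every `h ∈ H` fixes or swaps `D a` and `D c` -/
theorem keep_or_flip (F : SFam q b H O D W) (T : WT q O W) (h8 : 8 ≤ finrank (ZMod 2) V) {a c : V}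
    (ha : a ∈ O) (hc : c ∈ O) (hac : b a c = 1) {h : V ≃ₗ[ZMod 2] V} (hh : h ∈ H) :
    ((∀ v ∈ D a, h v ∈ D a) ∧ ∀ v ∈ D c, h v ∈ D c) ∨ ((∀ v ∈ D a, h v ∈ D c) ∧ ∀ v ∈ D c, h v ∈ D a) := by
  have hca : b c a = 1 := by rw [F.comm]; exact hac
  have hha := F.stable h hh a ha
  have hhc := F.stable h hh c hc
  have hhac : b (h a) (h c) = 1 := by rw [F.b_H hh]; exact hac
  have ka : ∀ v ∈ D a, h v ∈ D (h a) := F.D_map h hh a ha
  have kc : ∀ v ∈ D c, h v ∈ D (h c) := F.D_map h hh c hc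
  rcases F.mem_or T h8 ha hc hac hha with h1 | h1
  · left
    have e1 := (F.D_const T h8 ha hc hac h1 (F.zero _ hha)).2
    rcases F.mem_or T h8 ha hc hac hhc with h2 | h2
    · exfalso
      rw [F.b_D ha h1 h2] at hhac
      exact absurd hhac (by decide)
    · have e2 := (F.D_const T h8 hc ha hca h2 (F.zero _ hhc)).2
      rw [e1] at ka
      rw [e2] at kc
      exact ⟨ka, kc⟩
  · right
    have e1 := (F.D_const T h8 hc ha hca h1 (F.zero _ hha)).2
    rcases F.mem_or T h8 ha hc hac hhc with h2 | h2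
    · have e2 := (F.D_const T h8 ha hc hac h2 (F.zero _ hhc)).2
      rw [e1] at ka
      rw [e2] at kc
      exact ⟨ka, kc⟩
    · exfalso
      rw [F.b_D hc h1 h2] at hhac
      exact absurd hhac (by decide)

/-- all transvections of `D a` are induced: `sg v u ∈ H` for `v ∈ D a`, `u ∈ D c`, `b v u = 0`, `v ≠ 0` -/
theorem siegel_mem (F : SFam q b H O D W) (T : WT q O W) (h8 : 8 ≤ finrank (ZMod 2) V) {a c : V}
    (ha : a ∈ O) (hc : c ∈ O) (hac : b a c = 1) {v u : V} (hv : v ∈ D a) (hv0 : v ≠ 0) (hu : u ∈ D c)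
    (hvu : b v u = 0) : ∃ h ∈ H, ∀ x, h x = sg q b v u x := by
  have hca : b c a = 1 := by rw [F.comm]; exact hac
  obtain ⟨h1, h2⟩ := F.D_const T h8 ha hc hac hv hv0
  apply F.siegel v h1
  -- `u ∈ W v`
  obtain ⟨c', hc', hc'v⟩ : ∃ c' ∈ D c, b c' v = 1 := by
    by_contra hcon
    push Not at hcon
    apply hv0
    apply F.D_inf_D T h8 ha hc hac hv
    apply F.mem_D_of_perp T hc
    intro z hz
    rcases zm (b z v) with h3 | h3
    · exact h3
    · exact absurd h3 (hcon z hz)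
  have hc'0 : c' ≠ 0 := by
    rintro rfl
    rw [map_zero, LinearMap.zero_apply] at hc'v
    exact absurd hc'v (by decide)
  obtain ⟨h3, h4⟩ := F.D_const T h8 hc ha hca hc' hc'0
  rw [← h4] at hu
  exact F.D_le_W T h8 h3 h1 hc'v hu hvu

/-- **Main theorem**: `dim V ≥ 8`, `dim D ≥ 2`, no nonzero `H`-invariant totally singular subspace ⇒
`V = D a ⊕ D c`, `O = (D a)# ∪ (D c)#`, `H` permutes `{D a, D c}` and contains all `sg v u`. -/
theorem main (F : SFam q b H O D W) (h8 : 8 ≤ finrank (ZMod 2) V)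
    (hirr : ∀ R : Submodule (ZMod 2) V, (∀ v ∈ R, q v = 0) → (∀ h ∈ H, ∀ v ∈ R, h v ∈ R) → R = ⊥)
    {a c : V} (ha : a ∈ O) (hc : c ∈ O) (hac : b a c = 1) (hd : 2 ≤ finrank (ZMod 2) (D a)) :
    2 * finrank (ZMod 2) (D a) = finrank (ZMod 2) V ∧
    (∀ v ∈ D a, v ∈ D c → v = 0) ∧
    (∀ v, v ∈ O ↔ v ≠ 0 ∧ (v ∈ D a ∨ v ∈ D c)) ∧
    (∀ h ∈ H, ((∀ v ∈ D a, h v ∈ D a) ∧ ∀ v ∈ D c, h v ∈ D c) ∨
      ((∀ v ∈ D a, h v ∈ D c) ∧ ∀ v ∈ D c, h v ∈ D a)) ∧
    (∀ v ∈ D a, v ≠ 0 → ∀ u ∈ D c, b v u = 0 → ∃ h ∈ H, ∀ x, h x = sg q b v u x) ∧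
    (∀ v ∈ D c, v ≠ 0 → ∀ u ∈ D a, b v u = 0 → ∃ h ∈ H, ∀ x, h x = sg q b v u x) := by
  have T : WT q O W := F.W_ts h8 hirr ha hc hac hd
  have hca : b c a = 1 := by rw [F.comm]; exact hac
  refine ⟨(F.dim_eq T ha).1, fun v hv hv' => F.D_inf_D T h8 ha hc hac hv hv', fun v => ⟨fun hv =>
    ⟨F.zero v hv, F.mem_or T h8 ha hc hac hv⟩, ?_⟩, fun h hh => F.keep_or_flip T h8 ha hc hac hh,
    fun v hv hv0 u hu hvu => F.siegel_mem T h8 ha hc hac hv hv0 hu hvu,
    fun v hv hv0 u hu hvu => F.siegel_mem T h8 hc ha hca hv hv0 hu hvu⟩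
  rintro ⟨hv0, hv | hv⟩
  · exact (F.D_const T h8 ha hc hac hv hv0).1
  · exact (F.D_const T h8 hc ha hca hv hv0).1

end SFam

end Cfsg.Agent.LargeExtra.SiegFam
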