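import Cfsg.Agent.LargeExtra.SiegFam.CaseIII
import Cfsg.Agent.LargeExtra.SixInst
import Cfsg.Agent.LargeExtra.Dickson

/-!
# Siegel families of pairs; conclusion for `|V| ≥ 2⁸` (helper73)

`siegel_case`: `p : Pair Q z A a`, all elements of `p.X` Siegel, `dim V ≥ 8`, `|D̃| ≥ 4`, no nonzero
totally singular `H`-invariant subspace ⇒ `V = U ⊕ U'` with `U = D̃`, `U, U'` totally singular of dimension
`dim V / 2`, `H` permutes `{U, U'}`, some `h ∈ H` swaps them, and `H` contains all Siegel elements `sg v u`,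
`v ∈ U`, `u ∈ U'` and `v ∈ U'`, `u ∈ U`, `b v u = 0`.
-/

set_option autoImplicit false

namespace Cfsg.Agent.LargeExtra.SiegFam.Inst

open Module
open Cfsg.Agent.Co2Type.Quad Cfsg.Agent.LargeExtra.Base Cfsg.Agent.LargeExtra.TwoCentral
open Cfsg.Agent.LargeExtra.Siegel Cfsg.Agent.LargeExtra.SiegelOrbit Cfsg.Agent.LargeExtra.SixInst
open Cfsg.Agent.LargeExtra.SiegFam.Lin

variable {G : Type*} [Group G] {Q A : Subgroup G} {z a : G}

theorem alt [Finite Q] (h : Large Q z) : Alt h.b where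
  fin := inferInstance
  nondeg := fun _ hv => h.b_nondeg hv
  self := h.b_self
  even := Dickson.even_finrank h

/-- all elements of `X` are Siegel elements -/
def AllSg (p : Pair Q z A a) : Prop :=
  ∀ f ∈ p.X, ∃ (w : p.lz.V) (hw : p.lz.b p.va w = 0), f = Siegel.sg p.lz p.va w (q_va p) hw

theorem sg_eq (h : Large Q z) {c w : h.V} (hc : h.q c = 0) (hw : h.b c w = 0) (v : h.V) :
    Siegel.sg h c w hc hw v = SiegFam.sg h.q h.b c w v := by
  rw [sg_apply, SiegFam.sg, add_smul]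
  abel

theorem sFam [Finite G] (p : Pair Q z A a) (hS : AllSg p) :
    SFam p.lz.q p.lz.b p.H (orb p) (fam p p.D) (fam p (pW p)) where
  alt := alt p.lz
  q_add := p.lz.q_add'
  q_H := fun h hh v => H_le_O p hh v
  zero := by
    rintro _ ⟨f, hf, rfl⟩ h0
    exact p.va_ne (f.map_eq_zero_iff.1 h0)
  stable := by
    rintro h hh _ ⟨f, hf, rfl⟩
    exact ⟨h * f, p.H.mul_mem hh hf, rfl⟩
  trans := by
    rintro _ ⟨f, hf, rfl⟩ _ ⟨g, hg, rfl⟩
    refine ⟨g * f⁻¹, p.H.mul_mem hg (p.H.inv_mem hf), ?_⟩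
    show g (f⁻¹ (f p.va)) = g p.va
    rw [apply_inv]
  self_D := by
    rintro _ ⟨f, hf, rfl⟩
    exact (mem_fam p (inv_D p) hf).2 ⟨p.va, p.va_mem_D, rfl⟩
  q_D := by
    rintro _ ⟨f, hf, rfl⟩ v hv
    obtain ⟨s, hs, rfl⟩ := (mem_fam p (inv_D p) hf).1 hv
    rw [q_of_mem_O p.lz (H_le_O p hf)]
    exact p.q_D hs
  self_W := by
    rintro _ ⟨f, hf, rfl⟩
    exact (mem_fam p (inv_W p) hf).2 ⟨p.va, va_mem_pW p, rfl⟩
  perp_W := by
    rintro _ ⟨f, hf, rfl⟩ v hv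
    obtain ⟨s, hs, rfl⟩ := (mem_fam p (inv_W p) hf).1 hv
    rw [b_of_mem_O p.lz (H_le_O p hf)]
    exact hs.1
  D_map := fun h hh c hc v hv => fam_map p (inv_D p) hh hc hv
  W_map := fun h hh c hc v hv => fam_map p (inv_W p) hh hc hv
  siegel := by
    rintro _ ⟨f, hf, rfl⟩ w hw
    obtain ⟨s, hs, rfl⟩ := (mem_fam p (inv_W p) hf).1 hw
    refine ⟨f * Siegel.sg p.lz p.va s (q_va p) hs.1 * f⁻¹,
      p.H.mul_mem (p.H.mul_mem hf (p.X_le_H hs.2)) (p.H.inv_mem hf), fun v => ?_⟩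
    rw [sg_conj p.lz (H_le_O p hf) (q_va p) hs.1
      (by rw [q_of_mem_O p.lz (H_le_O p hf)]; exact q_va p)
      (by rw [b_of_mem_O p.lz (H_le_O p hf)]; exact hs.1), sg_eq]
  cap := by
    rintro _ ⟨f, hf, rfl⟩ v hv hw
    obtain ⟨s, hs, rfl⟩ := (mem_fam p (inv_D p) hf).1 hv
    have h1 : s = 0 ∨ s = p.va := by
      apply eq_of_mem_D_perp p hS hs
      intro w hw'
      have h2 := hw (f w) ((mem_fam p (inv_W p) hf).2 ⟨w, hw', rfl⟩)
      rw [b_of_mem_O p.lz (H_le_O p hf)] at h2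
      rw [p.lz.b_comm]; exact h2
    rcases h1 with rfl | rfl
    · left; rw [map_zero]
    · right; rfl
  dim := by
    rintro _ ⟨f, hf, rfl⟩
    have hfin := (alt p.lz).finDim
    rw [fam_eq p (inv_D p) hf, fam_eq p (inv_W p) hf, LinearEquiv.finrank_map_eq,
      LinearEquiv.finrank_map_eq]
    have h1 := card_pW p hS
    rw [Module.natCard_eq_pow_finrank (K := ZMod 2) (V := pW p),
      Module.natCard_eq_pow_finrank (K := ZMod 2) (V := p.D),
      Module.natCard_eq_pow_finrank (K := ZMod 2) (V := p.lz.V), ← pow_add, Nat.card_zmod] at h1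
    have h2 := Nat.pow_right_injective (le_refl 2) h1
    omega

/-- no nonzero totally singular `H`-invariant subspace -/
def Irr (p : Pair Q z A a) : Prop :=
  ∀ R : Submodule (ZMod 2) p.lz.V, (∀ v ∈ R, p.lz.q v = 0) → (∀ h ∈ p.H, ∀ v ∈ R, h v ∈ R) → R = ⊥

/-- some conjugate of `ã` is not perpendicular to `ã` -/
theorem exists_not_perp (p : Pair Q z A a) (hirr : Irr p) : ∃ f ∈ p.H, p.lz.b p.va (f p.va) = 1 := by
  by_contra hcon
  push Not at hcon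
  have hperp : ∀ f ∈ p.H, p.lz.b p.va (f p.va) = 0 := by
    intro f hf
    rcases zmod_two (p.lz.b p.va (f p.va)) with h1 | h1
    · exact h1
    · exact absurd h1 (hcon f hf)
  have hbb : ∀ f ∈ p.H, ∀ u ∈ U p, p.lz.b (f p.va) u = 0 := by
    intro f hf u hu
    rw [p.lz.b_comm]
    apply perp_U p _ u hu
    intro g hg
    rw [p.lz.b_comm, ← b_of_mem_O p.lz (H_le_O p (p.H.inv_mem hf)), SiegelOrbit.apply_inv]
    exact hperp (f⁻¹ * g) (p.H.mul_mem (p.H.inv_mem hf) hg)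
  have hq : ∀ v ∈ U p, p.lz.q v = 0 := by
    intro v hv
    induction hv using Submodule.span_induction with
    | mem x hx =>
      obtain ⟨f, hf, rfl⟩ := hx
      rw [q_of_mem_O p.lz (H_le_O p hf)]
      exact q_va p
    | zero => exact p.lz.q_zero
    | add x y hx hy ihx ihy =>
      rw [p.lz.q_add', ihx, ihy, perp_U p (fun f hf => hbb f hf y hy) x hx, add_zero, add_zero]
    | smul c x _ hx =>
      rcases zmod_two c with rfl | rfl
      · rw [zero_smul]; exact p.lz.q_zero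
      · rw [one_smul]; exact hx
  have h1 := hirr (U p) hq fun h hh v hv => U_inv p hh hv
  have h2 := va_mem_U p
  rw [h1, Submodule.mem_bot] at h2
  exact p.va_ne h2

/-- the conclusion in the Siegel case -/
structure Split (p : Pair Q z A a) (U U' : Submodule (ZMod 2) p.lz.V) : Prop where
  va_mem : p.va ∈ U
  D_eq : p.D = U
  q_U : ∀ v ∈ U, p.lz.q v = 0
  q_U' : ∀ v ∈ U', p.lz.q v = 0
  disj : ∀ v ∈ U, v ∈ U' → v = 0
  dim : 2 * finrank (ZMod 2) U = finrank (ZMod 2) p.lz.V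
  dim' : 2 * finrank (ZMod 2) U' = finrank (ZMod 2) p.lz.V
  orbit : ∀ v, (∃ f ∈ p.H, f p.va = v) ↔ v ≠ 0 ∧ (v ∈ U ∨ v ∈ U')
  perm : ∀ h ∈ p.H, ((∀ v ∈ U, h v ∈ U) ∧ ∀ v ∈ U', h v ∈ U') ∨
    ((∀ v ∈ U, h v ∈ U') ∧ ∀ v ∈ U', h v ∈ U)
  flip : ∃ h ∈ p.H, (∀ v ∈ U, h v ∈ U') ∧ ∀ v ∈ U', h v ∈ U
  siegel : ∀ v ∈ U, v ≠ 0 → ∀ u ∈ U', p.lz.b v u = 0 →
    ∃ h ∈ p.H, ∀ x, h x = SiegFam.sg p.lz.q p.lz.b v u x
  siegel' : ∀ v ∈ U', v ≠ 0 → ∀ u ∈ U, p.lz.b v u = 0 →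
    ∃ h ∈ p.H, ∀ x, h x = SiegFam.sg p.lz.q p.lz.b v u x

/-- **the Siegel case**, `dim V ≥ 8` -/
theorem siegel_case [Finite G] (p : Pair Q z A a) (hS : AllSg p)
    (h8 : 8 ≤ finrank (ZMod 2) p.lz.V) (hirr : Irr p) (hd : 4 ≤ Nat.card p.D) :
    ∃ U U' : Submodule (ZMod 2) p.lz.V, Split p U U' := by
  have F := sFam p hS
  have hfin := (alt p.lz).finDim
  obtain ⟨f, hf, hf1⟩ := exists_not_perp p hirr
  have ha : p.va ∈ orb p := va_mem_orb p
  have hc : f p.va ∈ orb p := ⟨f, hf, rfl⟩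
  have eD : fam p p.D p.va = p.D := fam_va p (inv_D p)
  have hd' : 2 ≤ finrank (ZMod 2) (fam p p.D p.va) := by
    rw [eD]
    rw [Module.natCard_eq_pow_finrank (K := ZMod 2) (V := p.D), Nat.card_zmod] at hd
    by_contra hcon
    have h1 : finrank (ZMod 2) p.D ≤ 1 := by omega
    have h2 : 2 ^ finrank (ZMod 2) p.D ≤ 2 ^ 1 := Nat.pow_le_pow_right (by norm_num) h1
    omega
  obtain ⟨h1, h2, h3, h4, h5, h6⟩ := F.main h8 hirr ha hc hf1 hd'
  have hdc := F.finrank_D ha hc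
  refine ⟨fam p p.D p.va, fam p p.D (f p.va), ?_⟩
  refine ⟨F.self_D _ ha, eD.symm, F.q_D _ ha, F.q_D _ hc, h2, h1, by rw [← hdc]; exact h1,
    fun v => h3 v, h4, ?_, h5, h6⟩
  by_contra hcon
  have h7 : fam p p.D p.va = ⊥ := by
    apply hirr _ (F.q_D _ ha)
    intro h hh
    rcases h4 h hh with h8 | h8
    · exact h8.1
    · exact absurd ⟨h, hh, h8⟩ hcon
  rw [h7, finrank_bot] at hd'
  omega

end Cfsg.Agent.LargeExtra.SiegFam.Inst
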