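import Mathlib

/-!
# Linear algebra over `F₂` for the Siegel families (helper73)

`V` finite, `b` a nondegenerate alternating form.  `pp b x = x^⊥`, `S^⊥ = b.orthogonal S`.
-/

set_option autoImplicit false

namespace Cfsg.Agent.LargeExtra.SiegFam.Lin

open Module

variable {V : Type*} [AddCommGroup V] [Module (ZMod 2) V]

theorem zm (c : ZMod 2) : c = 0 ∨ c = 1 := by revert c; decide

theorem zm_ne {c : ZMod 2} (h : c ≠ 0) : c = 1 := by revert c; decide

theorem zadd (c : ZMod 2) : c + c = 0 := by revert c; decide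

theorem one_add : (1 : ZMod 2) + 1 = 0 := by decide

theorem add_self (v : V) : v + v = 0 := by
  have : (2 : ZMod 2) • v = 0 := by rw [show (2 : ZMod 2) = 0 from rfl, zero_smul]
  rwa [two_smul] at this

theorem eq_of_add {v w : V} (h : v + w = 0) : v = w := by
  calc v = v + (w + w) := by rw [add_self, add_zero]
    _ = (v + w) + w := by rw [add_assoc]
    _ = w := by rw [h, zero_add]

theorem add_add' (v w : V) : v + w + w = v := by rw [add_assoc, add_self, add_zero]

theorem mem_span_one {a v : V} : v ∈ Submodule.span (ZMod 2) ({a} : Set V) ↔ v = 0 ∨ v = a := by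
  rw [Submodule.mem_span_singleton]
  constructor
  · rintro ⟨c, rfl⟩
    rcases zm c with rfl | rfl
    · left; rw [zero_smul]
    · right; rw [one_smul]
  · rintro (rfl | rfl)
    · exact ⟨0, zero_smul _ _⟩
    · exact ⟨1, one_smul _ _⟩

/-- nondegenerate alternating form on a finite space -/
structure Alt (b : LinearMap.BilinForm (ZMod 2) V) : Prop where
  fin : Finite V
  nondeg : ∀ v, (∀ w, b v w = 0) → v = 0
  self : ∀ v, b v v = 0
  even : Even (finrank (ZMod 2) V)

/-- the perpendicular space of a vector -/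
def pp (b : LinearMap.BilinForm (ZMod 2) V) (x : V) : Submodule (ZMod 2) V := LinearMap.ker (b x)

theorem mem_pp {b : LinearMap.BilinForm (ZMod 2) V} {x v : V} : v ∈ pp b x ↔ b x v = 0 := Iff.rfl

variable {b : LinearMap.BilinForm (ZMod 2) V}

theorem mem_orth {S : Submodule (ZMod 2) V} {v : V} : v ∈ b.orthogonal S ↔ ∀ s ∈ S, b s v = 0 :=
  LinearMap.BilinForm.mem_orthogonal_iff

namespace Alt

theorem comm (A : Alt b) (v w : V) : b v w = b w v := by
  have h := A.self (v + w)
  rw [map_add b, LinearMap.add_apply, map_add, map_add, A.self, A.self, zero_add, add_zero] at h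
  revert h
  generalize b v w = x, b w v = y
  revert x y; decide

theorem finDim (A : Alt b) : FiniteDimensional (ZMod 2) V := by
  have := A.fin
  exact Module.Finite.of_finite

theorem isRefl (A : Alt b) : b.IsRefl := fun v w h => by rw [A.comm]; exact h

theorem nondegenerate (A : Alt b) : b.Nondegenerate :=
  ⟨fun v hv => A.nondeg v hv, fun v hv => A.nondeg v fun w => by rw [A.comm]; exact hv w⟩

theorem finrank_orth (A : Alt b) (S : Submodule (ZMod 2) V) :
    finrank (ZMod 2) S + finrank (ZMod 2) (b.orthogonal S) = finrank (ZMod 2) V := by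
  have := A.finDim
  have h1 := LinearMap.BilinForm.finrank_orthogonal A.nondegenerate S
  have h2 : finrank (ZMod 2) S ≤ finrank (ZMod 2) V := Submodule.finrank_le S
  omega

theorem orth_orth (A : Alt b) (S : Submodule (ZMod 2) V) : b.orthogonal (b.orthogonal S) = S := by
  have := A.finDim
  exact LinearMap.BilinForm.orthogonal_orthogonal A.nondegenerate A.isRefl S

theorem exists_ne (A : Alt b) {x : V} (hx : x ≠ 0) : ∃ v, b x v = 1 := by
  by_contra hcon
  push Not at hcon
  exact hx (A.nondeg x fun w => by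
    rcases zm (b x w) with h | h
    · exact h
    · exact absurd h (hcon w))

theorem finrank_le_of_le (A : Alt b) {S T : Submodule (ZMod 2) V} (h : S ≤ T) :
    finrank (ZMod 2) S ≤ finrank (ZMod 2) T := by
  have := A.finDim
  exact Submodule.finrank_mono h

theorem eq_of_le (A : Alt b) {S T : Submodule (ZMod 2) V} (h : S ≤ T)
    (h' : finrank (ZMod 2) T ≤ finrank (ZMod 2) S) : S = T := by
  have := A.finDim
  exact Submodule.eq_of_le_of_finrank_le h h'

/-- intersecting with `x^⊥` drops the dimension by at most one -/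
theorem finrank_inf_pp (A : Alt b) (S : Submodule (ZMod 2) V) (x : V) :
    finrank (ZMod 2) S ≤ finrank (ZMod 2) (S ⊓ pp b x : Submodule (ZMod 2) V) + 1 := by
  have := A.finDim
  let f : S →ₗ[ZMod 2] ZMod 2 := (b x).domRestrict S
  have h1 := LinearMap.finrank_range_add_finrank_ker f
  have h2 : finrank (ZMod 2) (LinearMap.range f) ≤ 1 := by
    have := Submodule.finrank_le (LinearMap.range f)
    rwa [finrank_self] at this
  have h3 : finrank (ZMod 2) (LinearMap.ker f) = finrank (ZMod 2) (S ⊓ pp b x : Submodule (ZMod 2) V) := by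
    have e : (LinearMap.ker f).map S.subtype = S ⊓ pp b x := by
      ext v
      constructor
      · rintro ⟨s, hs, rfl⟩
        exact ⟨s.2, hs⟩
      · rintro ⟨h1, h2⟩
        exact ⟨⟨v, h1⟩, h2, rfl⟩
    rw [← e, Submodule.finrank_map_subtype_eq]
  omega

/-- … and by exactly one when `S ⊄ x^⊥` -/
theorem finrank_inf_pp_lt (A : Alt b) {S : Submodule (ZMod 2) V} {x s : V} (hs : s ∈ S)
    (h : b x s ≠ 0) :
    finrank (ZMod 2) (S ⊓ pp b x : Submodule (ZMod 2) V) + 1 = finrank (ZMod 2) S := by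
  have := A.finDim
  have h1 := A.finrank_inf_pp S x
  have h2 : S ⊓ pp b x < S := by
    refine lt_of_le_of_ne inf_le_left fun he => h ?_
    have : s ∈ S ⊓ pp b x := by rw [he]; exact hs
    exact this.2
  have h3 := Submodule.finrank_lt_finrank_of_lt h2
  omega

theorem finrank_span_one (_A : Alt b) {a : V} (h : a ≠ 0) :
    finrank (ZMod 2) (Submodule.span (ZMod 2) ({a} : Set V)) = 1 := finrank_span_singleton h

theorem finrank_sup_inf (A : Alt b) (S T : Submodule (ZMod 2) V) :
    finrank (ZMod 2) (S ⊔ T : Submodule (ZMod 2) V) + finrank (ZMod 2) (S ⊓ T : Submodule (ZMod 2) V) =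
      finrank (ZMod 2) S + finrank (ZMod 2) T := by
  have := A.finDim
  exact Submodule.finrank_sup_add_finrank_inf_eq S T

/-- `dim (S + ⟨x⟩) = dim S + 1` for `x ∉ S` -/
theorem finrank_sup_one (A : Alt b) {S : Submodule (ZMod 2) V} {x : V} (h : x ∉ S) :
    finrank (ZMod 2) (S ⊔ Submodule.span (ZMod 2) {x} : Submodule (ZMod 2) V) = finrank (ZMod 2) S + 1 := by
  have hx : x ≠ 0 := fun h0 => h (h0 ▸ S.zero_mem)
  have h1 := A.finrank_sup_inf S (Submodule.span (ZMod 2) {x})
  have h2 : S ⊓ Submodule.span (ZMod 2) {x} = ⊥ := by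
    rw [eq_bot_iff]
    rintro v ⟨hv1, hv2⟩
    rcases mem_span_one.1 hv2 with rfl | rfl
    · exact Submodule.zero_mem _
    · exact absurd hv1 h
  rw [h2, finrank_bot, add_zero, A.finrank_span_one hx] at h1
  exact h1

theorem mem_sup_one {S : Submodule (ZMod 2) V} {x v : V} :
    v ∈ S ⊔ Submodule.span (ZMod 2) {x} ↔ v ∈ S ∨ v + x ∈ S := by
  rw [Submodule.mem_sup]
  constructor
  · rintro ⟨s, hs, t, ht, rfl⟩
    rcases mem_span_one.1 ht with rfl | rfl
    · left; rw [add_zero]; exact hs
    · right; rw [add_add']; exact hs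
  · rintro (h | h)
    · exact ⟨v, h, 0, Submodule.zero_mem _, add_zero v⟩
    · exact ⟨v + x, h, x, Submodule.mem_span_singleton_self x, add_add' v x⟩

/-- totally isotropic subspaces have dimension at most half -/
theorem two_mul_le (A : Alt b) {S : Submodule (ZMod 2) V} (h : ∀ v ∈ S, ∀ w ∈ S, b v w = 0) :
    2 * finrank (ZMod 2) S ≤ finrank (ZMod 2) V := by
  have h1 := A.finrank_orth S
  have h2 : S ≤ b.orthogonal S := fun v hv => mem_orth.2 fun s hs => h s hs v hv
  have h3 := A.finrank_le_of_le h2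
  omega

/-- a maximal totally isotropic subspace is its own orthogonal -/
theorem mem_of_perp (A : Alt b) {S : Submodule (ZMod 2) V} (h : ∀ v ∈ S, ∀ w ∈ S, b v w = 0)
    (hS : finrank (ZMod 2) V ≤ 2 * finrank (ZMod 2) S) {v : V} (hv : ∀ s ∈ S, b s v = 0) : v ∈ S := by
  have h1 := A.finrank_orth S
  have h2 : S ≤ b.orthogonal S := fun v hv => mem_orth.2 fun s hs => h s hs v hv
  have h3 : S = b.orthogonal S := A.eq_of_le h2 (by omega)
  rw [h3]
  exact mem_orth.2 hv

/-- orthogonal of a sup -/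
theorem orth_sup (S T : Submodule (ZMod 2) V) :
    b.orthogonal (S ⊔ T) = b.orthogonal S ⊓ b.orthogonal T := by
  ext v
  rw [Submodule.mem_inf, mem_orth, mem_orth, mem_orth]
  constructor
  · intro h
    exact ⟨fun s hs => h s (Submodule.mem_sup_left hs), fun t ht => h t (Submodule.mem_sup_right ht)⟩
  · rintro ⟨h1, h2⟩ x hx
    obtain ⟨s, hs, t, ht, rfl⟩ := Submodule.mem_sup.1 hx
    rw [map_add, LinearMap.add_apply, h1 s hs, h2 t ht, add_zero]

/-- if `T ∩ W^⊥ = 0` then `dim (W ∩ T^⊥) = dim W - dim T` -/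
theorem finrank_inf_orth (A : Alt b) {W T : Submodule (ZMod 2) V}
    (h : ∀ t ∈ T, (∀ w ∈ W, b t w = 0) → t = 0) :
    finrank (ZMod 2) (W ⊓ b.orthogonal T : Submodule (ZMod 2) V) + finrank (ZMod 2) T =
      finrank (ZMod 2) W := by
  have h1 := A.finrank_sup_inf (b.orthogonal W) T
  have h2 : b.orthogonal W ⊓ T = ⊥ := by
    rw [eq_bot_iff]
    rintro t ⟨ht1, ht2⟩
    rw [Submodule.mem_bot]
    exact h t ht2 fun w hw => by rw [A.comm]; exact mem_orth.1 ht1 w hw
  have h3 := A.finrank_orth (b.orthogonal W ⊔ T)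
  rw [orth_sup, A.orth_orth] at h3
  have h4 := A.finrank_orth W
  rw [h2, finrank_bot] at h1
  omega

/-- a space of dimension at least two contains a nonzero vector of `x^⊥` -/
theorem exists_mem_pp (A : Alt b) {S : Submodule (ZMod 2) V} (h : 2 ≤ finrank (ZMod 2) S) (x : V) :
    ∃ s ∈ S, s ≠ 0 ∧ b x s = 0 := by
  have h1 := A.finrank_inf_pp S x
  have h2 : S ⊓ pp b x ≠ ⊥ := by
    intro h0
    rw [h0, finrank_bot] at h1
    omega
  obtain ⟨s, hs, hs0⟩ := (Submodule.ne_bot_iff _).1 h2
  exact ⟨s, hs.1, hs0, hs.2⟩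

/-- a space of dimension at least two has two distinct nonzero vectors -/
theorem exists_two (A : Alt b) {S : Submodule (ZMod 2) V} (h : 2 ≤ finrank (ZMod 2) S) :
    ∃ s ∈ S, ∃ t ∈ S, s ≠ 0 ∧ t ≠ 0 ∧ s ≠ t := by
  have h2 : S ≠ ⊥ := by
    intro h0
    rw [h0, finrank_bot] at h
    omega
  obtain ⟨s, hs, hs0⟩ := (Submodule.ne_bot_iff _).1 h2
  have h3 : ¬ S ≤ Submodule.span (ZMod 2) {s} := by
    intro h4
    have := A.finrank_le_of_le h4
    rw [A.finrank_span_one hs0] at this
    omega
  obtain ⟨t, ht, ht'⟩ := Set.not_subset.1 h3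
  refine ⟨s, hs, t, ht, hs0, ?_, ?_⟩
  · intro h0
    apply ht'
    exact mem_span_one.2 (Or.inl h0)
  · intro h0
    apply ht'
    exact mem_span_one.2 (Or.inr h0.symm)

end Alt

end Cfsg.Agent.LargeExtra.SiegFam.Lin
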